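import Mathlib

/-!
Named elements of `GL(3, 2)`.
-/

set_option autoImplicit false

namespace Cfsg.Agent.Pyramidal

/-- `GL(3, 2)`. -/
abbrev GL32 : Type := (Matrix (Fin 3) (Fin 3) (ZMod 2))ˣ

/-- The space. -/
abbrev W3 : Type := Fin 3 → ZMod 2

/-- The base point. -/
def e0 : W3 := ![1, 0, 0]

/-- The second base vector. -/
def e1 : W3 := ![0, 1, 0]

/-- Order three, fixing `e0`. -/
def mh : GL32 := ⟨!![1, 0, 0; 0, 0, 1; 0, 1, 1], !![1, 0, 0; 0, 1, 1; 0, 1, 0], by decide, by decide⟩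

/-- An involution inverting `mh`. -/
def mx : GL32 := ⟨!![1, 0, 0; 0, 0, 1; 0, 1, 0], !![1, 0, 0; 0, 0, 1; 0, 1, 0], by decide, by decide⟩

/-- A transvection. -/
def mt1 : GL32 := ⟨!![1, 1, 0; 0, 1, 0; 0, 0, 1], !![1, 1, 0; 0, 1, 0; 0, 0, 1], by decide, by decide⟩

/-- A transvection. -/
def mt2 : GL32 := ⟨!![1, 0, 1; 0, 1, 0; 0, 0, 1], !![1, 0, 1; 0, 1, 0; 0, 0, 1], by decide, by decide⟩

/-- A transvection. -/
def mt3 : GL32 := ⟨!![1, 1, 1; 0, 1, 0; 0, 0, 1], !![1, 1, 1; 0, 1, 0; 0, 0, 1], by decide, by decide⟩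

/-- A Singer element. -/
def mn : GL32 := ⟨!![0, 0, 1; 1, 0, 1; 0, 1, 0], !![1, 1, 0; 0, 0, 1; 1, 0, 0], by decide, by decide⟩

/-- A permutation. -/
def mc : GL32 := ⟨!![0, 0, 1; 1, 0, 0; 0, 1, 0], !![0, 1, 0; 0, 0, 1; 1, 0, 0], by decide, by decide⟩

/-- A regular unipotent element. -/
def ma : GL32 := ⟨!![1, 0, 0; 1, 1, 0; 0, 1, 1], !![1, 0, 0; 1, 1, 0; 1, 1, 1], by decide, by decide⟩

/-- A transvection fixing `e0` and `e1`. -/
def ms : GL32 := ⟨!![1, 0, 1; 0, 1, 0; 0, 0, 1], !![1, 0, 1; 0, 1, 0; 0, 0, 1], by decide, by decide⟩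

/-- Exchanges `e0` and `e1`. -/
def msw : GL32 := ⟨!![0, 1, 0; 1, 0, 0; 0, 0, 1], !![0, 1, 0; 1, 0, 0; 0, 0, 1], by decide, by decide⟩

theorem mh_three : mh ^ 3 = 1 := by decide
theorem mh_ne_one : mh ≠ 1 := by decide
theorem mx_two : mx * mx = 1 := by decide
theorem mh_mx : mx * mh = mh * mh * mx := by decide
theorem mn_seven : mn ^ 7 = 1 := by decide
theorem mn_ne_one : mn ≠ 1 := by decide
theorem mh_mn : mh * mn = mn * mn * mh := by decide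
theorem mh_mt1 : mh * mt1 = mt3 * mh := by decide
theorem mh_mt3 : mh * mt3 = mt2 * mh := by decide
theorem mh_mt2 : mh * mt2 = mt1 * mh := by decide
theorem mx_mt1 : mx * mt1 = mt2 * mx := by decide
theorem mt1_two : mt1 * mt1 = 1 := by decide
theorem mt2_two : mt2 * mt2 = 1 := by decide
theorem mt3_two : mt3 * mt3 = 1 := by decide
theorem mt_12 : mt1 * mt2 = mt3 := by decide
theorem mt_13 : mt1 * mt3 = mt2 := by decide
theorem mt_23 : mt2 * mt3 = mt1 := by decide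
theorem mt_21 : mt2 * mt1 = mt3 := by decide
theorem mt_31 : mt3 * mt1 = mt2 := by decide
theorem mt_32 : mt3 * mt2 = mt1 := by decide
theorem ma_comm : mn * mc * mn⁻¹ * mc⁻¹ = ma := by decide

theorem orbit_mn : ∀ p : W3, p ≠ 0 → ∃ i : Fin 7, ((mn ^ (i : ℕ) : GL32) : Matrix (Fin 3) (Fin 3) (ZMod 2)).mulVec e0 = p := by
  decide

theorem stab_words : ∀ f g a b c d : ZMod 2, a * d - b * c ≠ 0 →
    ∃ (i j l : Fin 2) (k : Fin 3), !![1, f, g; 0, a, b; 0, c, d] =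
      ((mt1 ^ (i : ℕ) * mt2 ^ (j : ℕ) * mh ^ (k : ℕ) * mx ^ (l : ℕ) : GL32) : Matrix (Fin 3) (Fin 3) (ZMod 2)) := by
  decide

theorem pair_extend : ∀ p q : W3, p ≠ 0 → q ≠ 0 → p ≠ q →
    ∃ r : W3, (Matrix.of ![p, q, r]).det ≠ 0 := by
  decide

end Cfsg.Agent.Pyramidal
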