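import Mathlib
import Cfsg.Agent.Lib.Pyramidal.Model

/-!
A group with quotient `GL(3, 2)` by an abelian 2-group whose involutions form the natural module has a
further involution.
-/

set_option autoImplicit false
set_option linter.style.haveILetI false
set_option linter.unusedSectionVars false

namespace Cfsg.Agent.Pyramidal

open Matrix Subgroup

universe u

/-- `E` is the natural module of the quotient `GL(3, 2)` and contains all involutions. -/
structure Frame {G : Type u} [Group G] (E : Subgroup G) : Type u where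
  ρ : G →* GL32
  ψ : W3 → G
  surj : Function.Surjective ρ
  ker : ρ.ker = centralizer (E : Set G)
  two : IsPGroup 2 ρ.ker
  mem : ∀ x : G, x * x = 1 ↔ x ∈ E
  ψ_mem : ∀ p, ψ p ∈ E
  ψ_surj : ∀ x ∈ E, ∃ p, ψ p = x
  ψ_inj : Function.Injective ψ
  ψ_add : ∀ p q, ψ (p + q) = ψ p * ψ q
  equiv : ∀ g p, g * ψ p * g⁻¹ = ψ ((ρ g : Matrix (Fin 3) (Fin 3) (ZMod 2)).mulVec p)

/-- The arithmetic in a free module of rank three. -/
theorem exists_norm_preimage {M : Type*} [AddCommGroup M] (k : ℕ) (act : GL32 → M →+ M)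
    (act_mul : ∀ A B x, act (A * B) x = act A (act B x)) (act_one : ∀ x, act 1 x = x)
    (hn : ∀ x : M, 2 ^ (k + 1) • x = 0) (v b1 b2 nb2 : M)
    (ha0 : act ma v = v + b1) (ha1 : act ma b1 = b1 + b2) (ha2' : act ma b2 = b2 + nb2)
    (hind : ∀ a b c : ℕ, a • v + b • b1 + c • b2 = 0 → 2 ^ (k + 1) ∣ a ∧ 2 ^ (k + 1) ∣ b ∧ 2 ^ (k + 1) ∣ c)
    (hspan : ∀ x : M, ∃ a b c : ℕ, a • v + b • b1 + c • b2 = x)
    (a' b' c' : ℕ) (habc : nb2 = (a' + a') • v + (b' + b') • b1 + (c' + c') • b2)
    (r : M) (hrfix : act ma r = r) : ∃ w : M, w + act (ma * ma) w + r = 0 := by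
  -- scalars
  obtain ⟨q, hq⟩ : ∃ q, q = 2 ^ (k + 1) := ⟨_, rfl⟩
  rw [← hq] at hn
  haveI : NeZero q := ⟨hq ▸ pow_ne_zero _ two_ne_zero⟩
  obtain ⟨inst⟩ : Nonempty (Module (ZMod q) M) := ⟨AddCommGroup.zmodModule hn⟩
  letI := inst
  have hsm : ∀ (c : ZMod q) (x : M), c.val • x = c • x := fun c x => by
    rw [← Nat.cast_smul_eq_nsmul (ZMod q), ZMod.natCast_zmod_val]
  let bv : Fin 3 → M := ![v, b1, b2]
  have hcomb : ∀ g : Fin 3 → ZMod q, ∑ i, g i • bv i = (g 0).val • v + (g 1).val • b1 + (g 2).val • b2 := fun g => by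
    simp [Fin.sum_univ_three, bv, hsm]
  have hli : LinearIndependent (ZMod q) bv := Fintype.linearIndependent_iff.2 fun g hg i => by
    rw [hcomb] at hg
    obtain ⟨h0, h1, h2⟩ := hind _ _ _ hg
    rw [← hq] at h0 h1 h2
    rw [← ZMod.natCast_zmod_val (g i), ZMod.natCast_eq_zero_iff]
    fin_cases i
    exacts [h0, h1, h2]
  have hsp : ∀ x : M, x ∈ Submodule.span (ZMod q) (Set.range bv) := by
    intro x
    obtain ⟨a, b, c, rfl⟩ := hspan x
    
    have hm : ∀ i, bv i ∈ Submodule.span (ZMod q) (Set.range bv) := fun i =>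
      Submodule.subset_span (Set.mem_range_self i)
    exact add_mem (add_mem (nsmul_mem (hm 0) _) (nsmul_mem (hm 1) _)) (nsmul_mem (hm 2) _)
  let bas := Module.Basis.mk hli (fun x _ => hsp x)
  have hbas : ∀ i, bas i = bv i := fun i => Module.Basis.mk_apply hli (fun x _ => hsp x) i
  let L : GL32 → Module.End (ZMod q) M := fun A => (act A).toZModLinearMap q
  have hL1 : L 1 = 1 := LinearMap.ext fun x => act_one x
  have hLmul : ∀ A B, L (A * B) = L A * L B := fun A B => LinearMap.ext fun x => act_mul A B x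
  have hdet : LinearMap.det (L ma) = 1 := by
    let φ : GL32 →* ZMod q :=
      { toFun := fun A => LinearMap.det (L A)
        map_one' := by rw [hL1, map_one]
        map_mul' := fun A B => by rw [hLmul, map_mul] }
    show φ ma = 1
    rw [← ma_comm, map_mul, map_mul, map_mul, mul_comm (φ mn) (φ mc), mul_assoc (φ mc), ← map_mul φ mn,
      mul_inv_cancel, map_one, mul_one, ← map_mul, mul_inv_cancel, map_one]
  set α : ZMod q := ((a' + a' : ℕ) : ZMod q) with hα
  set β : ZMod q := ((b' + b' : ℕ) : ZMod q) with hβ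
  set γ : ZMod q := ((c' + c' : ℕ) : ZMod q) with hγ
  have hN3 : nb2 = α • v + β • b1 + γ • b2 := by
    rw [habc, hα, hβ, hγ, Nat.cast_smul_eq_nsmul, Nat.cast_smul_eq_nsmul, Nat.cast_smul_eq_nsmul]
  have hlin : ∀ (s : ZMod q) x, act ma (s • x) = s • act ma x := fun s x => map_smul (L ma) s x
  
  
  have ha2 : act ma b2 = α • v + β • b1 + (1 + γ) • b2 := by rw [ha2', hN3]; module
  have hd : 1 + γ - β + α = 1 := by
    have hdet' := hdet
    rw [← LinearMap.det_toMatrix bas, Matrix.det_fin_three] at hdet'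
    have hcol : ∀ j (g : Fin 3 → ZMod q), act ma (bv j) = ∑ i, g i • bv i →
        ∀ i, LinearMap.toMatrix bas bas (L ma) i j = g i := by
      intro j g e i
      rw [LinearMap.toMatrix_apply, hbas]
      show bas.repr (act ma (bv j)) i = g i
      rw [e]
      simp only [← hbas]
      rw [bas.repr_sum_self]
    have c0 := hcol 0 ![1, 1, 0] (by simpa [Fin.sum_univ_three, bv] using ha0)
    have c1 := hcol 1 ![0, 1, 1] (by simpa [Fin.sum_univ_three, bv] using ha1)
    have c2 := hcol 2 ![α, β, 1 + γ] (by simpa [Fin.sum_univ_three, bv] using ha2)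
    simp only [c0, c1, c2, Matrix.cons_val_zero, Matrix.cons_val_one, Matrix.cons_val] at hdet'
    linear_combination hdet'
  have ha4 : act ma (act ma (act ma (act ma v))) = v := by
    rw [← act_mul, ← act_mul, ← act_mul, show ma * ma * ma * ma = 1 from by decide, act_one]
  have hzero := Fintype.linearIndependent_iff.1 hli
    ![(γ + 4) * α, (γ + 4) * β + α + 4, (γ + 4) * γ + β + 6] (by
      simp only [Fin.sum_univ_three, bv, Matrix.cons_val_zero, Matrix.cons_val_one, Matrix.cons_val]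
      refine Eq.trans ?_ (sub_self v)
      conv_rhs => enter [1]; rw [← ha4]
      simp only [ha0, map_add, hlin, ha1, ha2]
      module)
  have e1' : (γ + 4) * α = 0 := by simpa using hzero 0
  have e2 : (γ + 4) * β + α + 4 = 0 := by simpa using hzero 1
  have e3 : (γ + 4) * γ + β + 6 = 0 := by simpa using hzero 2
  have h2nil : IsNilpotent (2 : ZMod q) := ⟨k + 1, by
    have := ZMod.natCast_self q
    rw [hq] at this ⊢
    exact_mod_cast this⟩
  have hγ2 : γ = 2 * (c' : ZMod q) := by rw [hγ]; push_cast; ring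
  set ε : ZMod q := (c' : ZMod q) + 1 with hε
  have hγε : γ = 2 * ε - 2 := by rw [hγ2, hε]; ring
  have hunit : IsUnit (1 + 2 * (2 * ε ^ 2 + 3 * ε + 1) : ZMod q) :=
    ((Commute.all _ _).isNilpotent_mul_right h2nil).isUnit_one_add
  have hε0 : 2 * ε = 0 := by
    rw [← hunit.mul_left_eq_zero]
    rw [hγε] at e2 e3 hd
    linear_combination (2 * ε + 3) * e3 - e2 + hd
  have hγv : γ = -2 := by rw [hγε, hε0, zero_sub]
  have hβv : β = -2 := by rw [hγv] at e3; linear_combination e3
  have hαv : α = 0 := by rw [hγv, hβv] at hd; linear_combination hd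
  obtain ⟨x0, x1, x2, hx⟩ : ∃ x0 x1 x2 : ZMod q, r = x0 • v + x1 • b1 + x2 • b2 := by
    obtain ⟨a, b, c, h⟩ := hspan r
    exact ⟨a, b, c, by rw [← h, Nat.cast_smul_eq_nsmul, Nat.cast_smul_eq_nsmul, Nat.cast_smul_eq_nsmul]⟩
  have hz2 := Fintype.linearIndependent_iff.1 hli ![x2 * α, x0 + x2 * β, x1 + x2 * γ] (by
    simp only [Fin.sum_univ_three, bv, Matrix.cons_val_zero, Matrix.cons_val_one, Matrix.cons_val]
    refine Eq.trans ?_ (sub_self r)
    conv_rhs => enter [1]; rw [← hrfix]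
    rw [hx]
    simp only [map_add, hlin, ha0, ha1, ha2]
    module)
  have f0 : x0 = 2 * x2 := by
    have : x0 + x2 * β = 0 := by simpa using hz2 1
    rw [hβv] at this; linear_combination this
  have f1 : x1 = 2 * x2 := by
    have : x1 + x2 * γ = 0 := by simpa using hz2 2
    rw [hγv] at this; linear_combination this
  refine ⟨-(x2 • v), ?_⟩
  rw [act_mul, map_neg, map_neg, hlin, ha0, hlin, map_add, ha0, ha1, hx, f0, f1]
  module

namespace Frame

variable {G : Type u} [Group G] [Finite G] {E : Subgroup G} (F : Frame E)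

theorem ψ_zero : F.ψ 0 = 1 := by
  have h := F.ψ_add 0 0
  rw [add_zero] at h
  exact left_eq_mul.1 h

theorem le_ker : E ≤ F.ρ.ker := fun x hx => by
  rw [F.ker, mem_centralizer_iff]
  intro y hy
  have hx2 := (F.mem x).2 hx
  have hy2 := (F.mem y).2 hy
  calc y * x = y * (y * x * (y * x)) * x := by rw [(F.mem _).2 (mul_mem hy hx), mul_one]
    _ = y * y * (x * y) * (x * x) := by group
    _ = x * y := by rw [hx2, hy2, one_mul, mul_one]

/-- The kernel is not abelian. -/
theorem not_abelian (hab : ∀ x ∈ F.ρ.ker, ∀ y ∈ F.ρ.ker, x * y = y * x) : False := by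
  classical
  set R := F.ρ.ker with hR
  letI : CommGroup R :=
    { (inferInstance : Group R) with mul_comm := fun x y => Subtype.ext (hab x x.2 y y.2) }
  set M := Additive R with hM
  have hnorm : ∀ (g : G) (x : R), g * (x : G) * g⁻¹ ∈ R := fun g x =>
    (MonoidHom.normal_ker F.ρ).conj_mem _ x.2 g
  -- conjugation
  let cj : G → M →+ M := fun g =>
    { toFun := fun x => Additive.ofMul (⟨_, hnorm g x.toMul⟩ : R)
      map_zero' := congrArg Additive.ofMul (Subtype.ext (by simp))
      map_add' := fun x y => congrArg Additive.ofMul (Subtype.ext (by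
        show g * ((x.toMul : G) * (y.toMul : G)) * g⁻¹ = g * (x.toMul : G) * g⁻¹ * (g * (y.toMul : G) * g⁻¹)
        group)) }
  have hcj : ∀ g h : G, F.ρ g = F.ρ h → cj g = cj h := by
    intro g h e
    refine AddMonoidHom.ext fun x => congrArg Additive.ofMul (Subtype.ext ?_)
    show g * (x.toMul : G) * g⁻¹ = h * (x.toMul : G) * h⁻¹
    have hm : h⁻¹ * g ∈ R := by rw [hR, MonoidHom.mem_ker, map_mul, map_inv, e, inv_mul_cancel]
    calc g * (x.toMul : G) * g⁻¹ = h * ((h⁻¹ * g) * (x.toMul : G)) * g⁻¹ := by group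
      _ = h * ((x.toMul : G) * (h⁻¹ * g)) * g⁻¹ := by rw [hab _ hm _ x.toMul.2]
      _ = _ := by group
  let act : GL32 → M →+ M := fun A => cj (Function.surjInv F.surj A)
  have hact : ∀ g, act (F.ρ g) = cj g := fun g => hcj _ _ (Function.surjInv_eq F.surj _)
  have act_mul : ∀ A B x, act (A * B) x = act A (act B x) := by
    intro A B x
    obtain ⟨g, rfl⟩ := F.surj A
    obtain ⟨h, rfl⟩ := F.surj B
    rw [← map_mul, hact, hact, hact]
    refine congrArg Additive.ofMul (Subtype.ext ?_)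
    show g * h * (x.toMul : G) * (g * h)⁻¹ = g * (h * (x.toMul : G) * h⁻¹) * g⁻¹
    group
  have act_one : ∀ x, act 1 x = x := by
    intro x
    rw [← map_one F.ρ, hact]
    exact congrArg Additive.ofMul (Subtype.ext (show (1 : G) * (x.toMul : G) * 1⁻¹ = (x.toMul : G) by simp))
  -- the natural module
  let χ : W3 →+ M :=
    { toFun := fun p => Additive.ofMul (⟨F.ψ p, F.le_ker (F.ψ_mem p)⟩ : R)
      map_zero' := congrArg Additive.ofMul (Subtype.ext F.ψ_zero)
      map_add' := fun p q => congrArg Additive.ofMul (Subtype.ext (F.ψ_add p q)) }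
  have hχinj : Function.Injective χ := fun p q h =>
    F.ψ_inj (congrArg (fun x : M => ((x.toMul : R) : G)) h)
  have hχ : ∀ x : M, 2 • x = 0 → ∃ p, χ p = x := by
    intro x hx
    rw [two_nsmul] at hx
    obtain ⟨p, hp⟩ := F.ψ_surj _ ((F.mem _).1 (congrArg (fun z : M => ((z.toMul : R) : G)) hx))
    exact ⟨p, congrArg Additive.ofMul (Subtype.ext hp)⟩
  have hχ2 : ∀ p, 2 • χ p = 0 := fun p => by
    rw [two_nsmul, ← map_add, show p + p = 0 from funext fun i => CharTwo.add_self_eq_zero (p i), map_zero]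
  have hχe : ∀ (A : GL32) p, act A (χ p) = χ ((A : Matrix (Fin 3) (Fin 3) (ZMod 2)).mulVec p) := by
    intro A p
    obtain ⟨g, rfl⟩ := F.surj A
    rw [hact]
    exact congrArg Additive.ofMul (Subtype.ext (F.equiv g p))
  -- the exponent
  have hex : ∃ n, ∀ x : M, 2 ^ n • x = 0 := by
    obtain ⟨n, hn⟩ := IsPGroup.iff_card.1 F.two
    refine ⟨n, fun x => ?_⟩
    rw [← hn]
    exact congrArg Additive.ofMul (pow_card_eq_one' (x := (x.toMul : R)))
  obtain ⟨n, hn, hnmin⟩ : ∃ n, (∀ x : M, 2 ^ n • x = 0) ∧ ∀ m < n, ¬ ∀ x : M, 2 ^ m • x = 0 :=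
    ⟨Nat.find hex, Nat.find_spec hex, fun m => Nat.find_min hex⟩
  have he0 : χ e0 ≠ 0 := fun h => absurd (hχinj (h.trans χ.map_zero.symm)) (by decide)
  obtain ⟨k, rfl⟩ : ∃ k, n = k + 1 := Nat.exists_eq_succ_of_ne_zero fun h0 => he0 (by
    have := hn (χ e0)
    rwa [h0, pow_zero, one_nsmul] at this)
  obtain ⟨v, hv⟩ : ∃ v : M, 2 ^ k • v = χ e0 := by
    obtain ⟨x, hx⟩ := not_forall.1 (hnmin k (Nat.lt_succ_self k))
    obtain ⟨p, hp⟩ := hχ (2 ^ k • x) (by rw [← mul_nsmul', ← pow_succ']; exact hn x)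
    have hp0 : p ≠ 0 := fun h => hx (by rw [← hp, h, map_zero])
    obtain ⟨i, hi⟩ := orbit_mn p hp0
    refine ⟨act (mn ^ (i : ℕ))⁻¹ x, ?_⟩
    rw [← map_nsmul, ← hp, hχe, ← hi, Matrix.mulVec_mulVec, ← Units.val_mul, inv_mul_cancel, Units.val_one,
      one_mulVec]
  set N : M →+ M := act ma - AddMonoidHom.id M with hN
  have hNe : ∀ x, act ma x = x + N x := fun x => by simp [hN]
  set b1 := N v with hb1
  set b2 := N b1 with hb2
  have hNχ : ∀ p, N (χ p) = χ ((ma : Matrix (Fin 3) (Fin 3) (ZMod 2)).mulVec p + p) := fun p => by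
    have hneg : -χ p = χ p := neg_eq_of_add_eq_zero_left (by rw [← two_nsmul]; exact hχ2 p)
    rw [map_add, ← hχe, hN, AddMonoidHom.sub_apply, AddMonoidHom.id_apply, sub_eq_add_neg, hneg]
  have hv1 : 2 ^ k • b1 = χ ![0, 1, 0] := by
    rw [hb1, ← map_nsmul, hv, hNχ]; congr 1; decide
  have hv2 : 2 ^ k • b2 = χ ![0, 0, 1] := by
    rw [hb2, ← map_nsmul, hv1, hNχ]; congr 1; decide
  let comb : ℕ → ℕ → ℕ → M := fun a b c => a • v + b • b1 + c • b2
  have htop : ∀ a b c : ℕ, 2 ^ k • comb a b c = χ ![(a : ZMod 2), b, c] := by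
    intro a b c
    show 2 ^ k • (a • v + b • b1 + c • b2) = _
    rw [nsmul_add, nsmul_add, smul_comm _ a, smul_comm _ b, smul_comm _ c, hv, hv1, hv2, ← map_nsmul,
      ← map_nsmul, ← map_nsmul, ← map_add, ← map_add]
    congr 1
    ext i
    fin_cases i <;> simp [e0]
  have hind : ∀ i ≤ k + 1, ∀ a b c, comb a b c = 0 → 2 ^ i ∣ a ∧ 2 ^ i ∣ b ∧ 2 ^ i ∣ c := by
    intro i
    induction i with
    | zero => simp
    | succ i ih =>
      intro hi a b c h0
      obtain ⟨⟨a', rfl⟩, ⟨b', rfl⟩, ⟨c', rfl⟩⟩ := ih (by omega) a b c h0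
      have h1 : 2 ^ k • comb a' b' c' = 0 := by
        rw [show k = (k - i) + i by omega, pow_add, mul_nsmul']
        have : 2 ^ i • comb a' b' c' = comb (2 ^ i * a') (2 ^ i * b') (2 ^ i * c') := by
          show 2 ^ i • (a' • v + b' • b1 + c' • b2) = _
          simp only [comb, nsmul_add, mul_nsmul']
        rw [this, h0, nsmul_zero]
      rw [htop] at h1
      have h2 := hχinj (h1.trans χ.map_zero.symm)
      have ha := congrFun h2 0
      have hb := congrFun h2 1
      have hc := congrFun h2 2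
      simp only [Matrix.cons_val_zero, Matrix.cons_val_one, Matrix.cons_val, Pi.zero_apply,
        ZMod.natCast_eq_zero_iff_even, even_iff_two_dvd] at ha hb hc
      rw [pow_succ]
      exact ⟨mul_dvd_mul_left _ ha, mul_dvd_mul_left _ hb, mul_dvd_mul_left _ hc⟩
  have hspan : ∀ x : M, ∃ a b c, comb a b c = x := by
    suffices h : ∀ i ≤ k + 1, ∀ x : M, 2 ^ i • x = 0 → ∃ a b c, comb a b c = x from fun x => h _ le_rfl x (hn x)
    intro i
    induction i with
    | zero => intro _ x hx; exact ⟨0, 0, 0, by simpa [comb] using hx.symm⟩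
    | succ i ih =>
      intro hi x hx
      obtain ⟨p, hp⟩ := hχ (2 ^ i • x) (by rw [← mul_nsmul', ← pow_succ']; exact hx)
      set y := comb (2 ^ (k - i) * (p 0).val) (2 ^ (k - i) * (p 1).val) (2 ^ (k - i) * (p 2).val) with hy
      have hy2 : 2 ^ i • y = χ p := by
        have : y = 2 ^ (k - i) • comb (p 0).val (p 1).val (p 2).val := by
          simp only [hy, comb, nsmul_add, mul_nsmul']
        rw [this, ← mul_nsmul', ← pow_add, show i + (k - i) = k by omega, htop]
        congr 1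
        ext j
        fin_cases j <;> simp
      obtain ⟨a, b, c, habc⟩ := ih (by omega) (x - y) (by rw [nsmul_sub, hy2, hp, sub_self])
      refine ⟨a + 2 ^ (k - i) * (p 0).val, b + 2 ^ (k - i) * (p 1).val, c + 2 ^ (k - i) * (p 2).val, ?_⟩
      rw [← sub_add_cancel x y, ← habc]
      simp only [hy, comb, add_nsmul]
      abel
  -- the relation
  obtain ⟨a, b, c, habc⟩ := hspan (N b2)
  have heven : (a : ZMod 2) = 0 ∧ (b : ZMod 2) = 0 ∧ (c : ZMod 2) = 0 := by
    have h1 : 2 ^ k • N b2 = χ ![(a : ZMod 2), b, c] := by rw [← habc, htop]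
    rw [← map_nsmul, hv2, hNχ] at h1
    have h2 := hχinj h1
    rw [show (ma : Matrix (Fin 3) (Fin 3) (ZMod 2)).mulVec ![0, 0, 1] + ![0, 0, 1] = 0 from by decide] at h2
    exact ⟨(congrFun h2 0).symm, (congrFun h2 1).symm, (congrFun h2 2).symm⟩
  simp only [ZMod.natCast_eq_zero_iff_even] at heven
  obtain ⟨⟨a', rfl⟩, ⟨b', rfl⟩, ⟨c', rfl⟩⟩ := heven
  -- the new involution
  obtain ⟨g, hg⟩ := F.surj ma
  have hg4 : g * g * (g * g) ∈ R := by
    rw [hR, MonoidHom.mem_ker, map_mul, map_mul, hg]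
    decide
  set r : M := Additive.ofMul (⟨_, hg4⟩ : R) with hr
  have hrfix : act ma r = r := by
    rw [← hg, hact]
    refine congrArg Additive.ofMul (Subtype.ext ?_)
    show g * (g * g * (g * g)) * g⁻¹ = g * g * (g * g)
    group
  obtain ⟨w, hkey⟩ := exists_norm_preimage k act act_mul act_one hn v b1 b2 (N b2) (hNe v) (hNe b1) (hNe b2)
    (hind (k + 1) le_rfl) hspan a' b' c' habc.symm r hrfix
  rw [show ma * ma = F.ρ (g * g) by rw [map_mul, hg], hact] at hkey
  have hsq : (w.toMul : G) * (g * g * (w.toMul : G) * (g * g)⁻¹) * (g * g * (g * g)) = 1 :=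
    congrArg (fun z : M => ((z.toMul : R) : G)) hkey
  set t := (w.toMul : G) * (g * g) with ht
  have ht2 : t * t = 1 := by
    rw [← hsq, ht]
    simp only [mul_assoc, _root_.mul_inv_rev, inv_mul_cancel_left]
  have h1 := F.le_ker ((F.mem t).1 ht2)
  rw [MonoidHom.mem_ker, ht, map_mul, map_mul, hg, MonoidHom.mem_ker.1 w.toMul.2, one_mul] at h1
  exact absurd h1 (by decide)

end Frame

end Cfsg.Agent.Pyramidal
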