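import Mathlib
import Cfsg.Agent.Lib.Pyramidal.Model

/-!
No module of order 8 or 64 for `GL(3, 2)` carries an equivariant anisotropic quadratic map onto the
natural module with non-degenerate polarisation.
-/

set_option autoImplicit false
set_option linter.unusedSectionVars false

namespace Cfsg.Agent.Pyramidal

open Matrix

universe u

/-- The data. -/
structure QuadMod (V : Type u) [AddCommGroup V] [DistribMulAction GL32 V] : Type u where
  two : ∀ v : V, v + v = 0
  Q : V → W3
  B : V → V → W3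
  zero : ∀ v, Q v = 0 ↔ v = 0
  equiv : ∀ (A : GL32) v, Q (A • v) = (A : Matrix (Fin 3) (Fin 3) (ZMod 2)).mulVec (Q v)
  polar : ∀ v w, Q (v + w) = Q v + Q w + B v w
  left : ∀ u v w, B (u + v) w = B u w + B v w
  rad : ∀ v, v ≠ 0 → ∃ w, B v w ≠ 0

variable {V : Type u} [AddCommGroup V] [DistribMulAction GL32 V] (D : QuadMod V)

theorem W3.add_self (a : W3) : a + a = 0 := funext fun i => CharTwo.add_self_eq_zero (a i)

theorem mulVec_eq_zero_iff (A : GL32) (p : W3) :
    (A : Matrix (Fin 3) (Fin 3) (ZMod 2)).mulVec p = 0 ↔ p = 0 := by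
  refine ⟨fun h => ?_, fun h => by rw [h, mulVec_zero]⟩
  have := congrArg ((A⁻¹ : GL32) : Matrix (Fin 3) (Fin 3) (ZMod 2)).mulVec h
  rwa [mulVec_mulVec, ← Units.val_mul, inv_mul_cancel, Units.val_one, one_mulVec, mulVec_zero] at this

namespace QuadMod

include D

theorem add_self_smul (A : GL32) (v : V) : A • v + A • v = 0 := D.two _

theorem eq_of_add (v w : V) (h : v + w = 0) : v = w := by
  rw [eq_neg_of_add_eq_zero_left h, eq_comm, ← add_eq_zero_iff_eq_neg, D.two]

theorem Q_zero : D.Q 0 = 0 := (D.zero 0).2 rfl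

theorem B_self (v : V) : D.B v v = 0 := by
  have h := D.polar v v
  rw [D.two, D.Q_zero, W3.add_self, zero_add] at h
  exact h.symm

theorem B_eq (v w : V) : D.B v w = D.Q (v + w) + D.Q v + D.Q w := by
  rw [D.polar]
  calc D.B v w = (D.Q v + D.Q v) + (D.Q w + D.Q w) + D.B v w := by
        rw [W3.add_self, W3.add_self, add_zero, zero_add]
    _ = _ := by abel

theorem B_symm (v w : V) : D.B v w = D.B w v := by
  rw [D.B_eq, D.B_eq, add_comm v w, add_assoc, add_assoc, add_comm (D.Q v)]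

theorem right (u v w : V) : D.B u (v + w) = D.B u v + D.B u w := by
  rw [D.B_symm, D.left, D.B_symm v, D.B_symm w]

theorem B_zero (v : V) : D.B v 0 = 0 := by
  rw [D.B_eq, add_zero, D.Q_zero, add_zero, W3.add_self]

theorem B_smul (A : GL32) (v w : V) :
    D.B (A • v) (A • w) = (A : Matrix (Fin 3) (Fin 3) (ZMod 2)).mulVec (D.B v w) := by
  rw [D.B_eq, D.B_eq, ← smul_add, D.equiv, D.equiv, D.equiv, mulVec_add, mulVec_add]

theorem fix_mn {v : V} (h : mn • v = v) : v = 0 := by
  rw [← D.zero]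
  have h1 := D.equiv mn v
  rw [h] at h1
  generalize D.Q v = p at h1 ⊢
  revert p
  decide

theorem seven (v : V) : (7 : ℕ) • v = v := by
  rw [show (7 : ℕ) = 2 * 3 + 1 from rfl, add_nsmul, mul_nsmul, two_nsmul, D.two, nsmul_zero, one_nsmul,
    zero_add]

theorem sum_mn (v : V) : ∑ i ∈ Finset.range 7, mn ^ i • v = 0 := by
  refine D.fix_mn ?_
  rw [Finset.smul_sum]
  simp only [smul_smul, ← pow_succ']
  have h := Finset.sum_range_succ' (fun i => mn ^ i • v) 7
  rw [Finset.sum_range_succ, mn_seven, pow_zero, one_smul] at h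
  exact (add_right_cancel h).symm

/-- An element of order three fixing `e0` has a fixed point. -/
theorem exists_fix_mh {v : V} (hv : v ≠ 0) : ∃ c : V, c ≠ 0 ∧ mh • c = c := by
  by_contra hno
  push Not at hno
  have hh : ∀ w : V, w + mh • w + (mh * mh) • w = 0 := fun w => by
    by_contra hne
    refine hno _ hne ?_
    rw [smul_add, smul_add, smul_smul, smul_smul, show mh * (mh * mh) = 1 from by decide, one_smul]
    abel
  have hcj : ∀ (i : Fin 7) (w : V), w + (mh * mn ^ (i : ℕ)) • w +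
      (mh * mn ^ (i : ℕ) * (mh * mn ^ (i : ℕ))) • w = 0 := by
    intro i w
    obtain ⟨g, hg⟩ : ∃ g : GL32, mh * mn ^ (i : ℕ) = g * mh * g⁻¹ := by
      refine ⟨mn ^ (5 * (i : ℕ)), ?_⟩
      revert i
      decide
    rw [hg, show g * mh * g⁻¹ * (g * mh * g⁻¹) = g * (mh * mh) * g⁻¹ by group, mul_smul, mul_smul, mul_smul,
      mul_smul]
    have e := congrArg (g • ·) (hh (g⁻¹ • w))
    simp only [smul_add, smul_zero, smul_inv_smul, mul_smul] at e ⊢
    exact e
  have hsum := Finset.sum_eq_zero (s := Finset.univ) fun i (_ : i ∈ Finset.univ) => hcj i v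
  rw [Finset.sum_add_distrib, Finset.sum_add_distrib, Finset.sum_const] at hsum
  have h2 : ∑ i : Fin 7, (mh * mn ^ (i : ℕ)) • v = 0 := by
    simp only [mul_smul]
    rw [← Finset.smul_sum, Fin.sum_univ_eq_sum_range fun i => mn ^ i • v, D.sum_mn, smul_zero]
  have h3 : ∑ i : Fin 7, (mh * mn ^ (i : ℕ) * (mh * mn ^ (i : ℕ))) • v = 0 := by
    have he : ∀ i : Fin 7, mh * mn ^ (i : ℕ) * (mh * mn ^ (i : ℕ)) = mh * mh * mn ^ ((5 * i : Fin 7) : ℕ) := by
      decide
    simp only [he, mul_smul]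
    rw [← Finset.smul_sum, ← Finset.smul_sum]
    have hb : Function.Bijective fun i : Fin 7 => 5 * i := by decide
    rw [hb.sum_comp (fun i : Fin 7 => mn ^ (i : ℕ) • v), Fin.sum_univ_eq_sum_range fun i => mn ^ i • v,
      D.sum_mn, smul_zero, smul_zero]
  rw [h2, h3, add_zero, add_zero, Finset.card_univ, Fintype.card_fin] at hsum
  refine hv ?_
  rwa [D.seven] at hsum

theorem Q_of_fix {c : V} (hc : c ≠ 0) (h : mh • c = c) : D.Q c = e0 := by
  have h1 := D.equiv mh c
  rw [h] at h1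
  have h0 : D.Q c ≠ 0 := fun e => hc ((D.zero c).1 e)
  generalize D.Q c = p at h1 h0
  revert p
  decide

variable [Finite V]

theorem exists_over (hv : ∃ v : V, v ≠ 0) (p : W3) : ∃ v : V, D.Q v = p := by
  obtain ⟨v, hv⟩ := hv
  by_cases hp : p = 0
  · exact ⟨0, hp ▸ D.Q_zero⟩
  obtain ⟨i, hi⟩ := orbit_mn _ (fun e => hv ((D.zero v).1 e))
  obtain ⟨j, hj⟩ := orbit_mn p hp
  refine ⟨(mn ^ (j : ℕ) * (mn ^ (i : ℕ))⁻¹) • v, ?_⟩
  rw [D.equiv, ← hj, ← hi, mulVec_mulVec, ← Units.val_mul, inv_mul_cancel_right]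

theorem card_fiber [Fintype V] [DecidableEq V] :
    Fintype.card V = 1 + 7 * (Finset.univ.filter fun v => D.Q v = e0).card := by
  classical
  set F : W3 → Finset V := fun p => Finset.univ.filter fun v => D.Q v = p
  have hF : ∀ p, p ≠ 0 → (F p).card = (F e0).card := by
    intro p hp
    obtain ⟨i, hi⟩ := orbit_mn p hp
    refine (Finset.card_bij' (fun v _ => mn ^ (i : ℕ) • v) (fun v _ => (mn ^ (i : ℕ))⁻¹ • v) ?_ ?_ ?_ ?_).symm
    · intro v hv
      simp only [F, Finset.mem_filter, Finset.mem_univ, true_and] at hv ⊢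
      rw [D.equiv, hv, hi]
    · intro v hv
      simp only [F, Finset.mem_filter, Finset.mem_univ, true_and] at hv ⊢
      rw [D.equiv, hv, ← hi, mulVec_mulVec, ← Units.val_mul, inv_mul_cancel, Units.val_one, one_mulVec]
    · intro v _; exact inv_smul_smul _ v
    · intro v _; exact smul_inv_smul _ v
  have h0 : (F 0).card = 1 := Finset.card_eq_one.2 ⟨0, by
    ext v
    simp [F, D.zero]⟩
  rw [← Finset.card_univ, Finset.card_eq_sum_card_fiberwise (f := D.Q) (t := Finset.univ) (fun _ _ => Finset.mem_univ _),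
    ← Finset.add_sum_erase _ _ (Finset.mem_univ (0 : W3))]
  rw [show (Finset.univ.filter fun v => D.Q v = (0 : W3)).card = 1 from h0,
    Finset.sum_congr rfl (fun p hp => hF p (Finset.ne_of_mem_erase hp)), Finset.sum_const, smul_eq_mul,
    show ((Finset.univ : Finset W3).erase 0).card = 7 from by decide]

/-- A vector of the fibre of `e0` fixed by the stabiliser, and, for order 64, a second vector. -/
theorem exists_good (hcard : Nat.card V = 64) : ∃ v₀ v₁ : V, D.Q v₀ = e0 ∧ D.Q v₁ = e0 ∧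
    (mh • v₀ = v₀ ∧ mx • v₀ = v₀ ∧ mt1 • v₀ = v₀ ∧ mt2 • v₀ = v₀) ∧
    (mx • v₁ = v₁ ∨ mx • v₁ = v₁ + v₀) ∧ D.B v₀ v₁ = e0 := by
  classical
  haveI : Fintype V := Fintype.ofFinite V
  have hV : Fintype.card V = 64 := by rw [← Nat.card_eq_fintype_card, hcard]
  have hne : ∃ v : V, v ≠ 0 := by
    haveI : Nontrivial V := Fintype.one_lt_card_iff_nontrivial.1 (by omega)
    exact exists_ne 0
  set F := Finset.univ.filter fun v => D.Q v = e0 with hF
  have h9 : F.card = 9 := by have := D.card_fiber; rw [hV, ← hF] at this; omega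
  let C : AddSubgroup V :=
    { carrier := {v | mh • v = v}
      zero_mem' := smul_zero _
      add_mem' := fun {a b} (ha : mh • a = a) (hb : mh • b = b) => by
        show mh • (a + b) = a + b; rw [smul_add, ha, hb]
      neg_mem' := fun {a} (ha : mh • a = a) => by show mh • -a = -a; rw [smul_neg, ha] }
  have hCmem : ∀ v, v ∈ C ↔ mh • v = v := fun v => Iff.rfl
  set Cf := Finset.univ.filter fun v : V => mh • v = v ∧ v ≠ 0 with hCf
  have hsub : Cf ⊆ F := fun v hv => by
    simp only [hCf, hF, Finset.mem_filter, Finset.mem_univ, true_and] at hv ⊢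
    exact D.Q_of_fix hv.2 hv.1
  have hCc : Nat.card C = Cf.card + 1 := by
    rw [Nat.card_eq_fintype_card, Fintype.card_subtype,
      show Cf = (Finset.univ.filter fun v => v ∈ C).erase 0 by
        ext v; simp [hCf, hCmem, and_comm],
      Finset.card_erase_add_one (by simp)]
  obtain ⟨v, hv⟩ := hne
  obtain ⟨a, ha, hah⟩ := D.exists_fix_mh hv
  have hmod3 : Cf.card % 3 = 0 := by
      haveI : Fact (Nat.Prime 3) := ⟨by norm_num⟩
      let H : Subgroup GL32 := Subgroup.zpowers mh
      let X := {v : V // D.Q v = e0}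
      have hstab : ∀ (g : H) (v : X), D.Q ((g : GL32) • v.1) = e0 := fun g v => by
        have hfix : ((g : GL32) : Matrix (Fin 3) (Fin 3) (ZMod 2)).mulVec e0 = e0 := by
          obtain ⟨i, hi⟩ := Subgroup.mem_zpowers_iff.1 g.2
          rw [← hi]
          have : ∀ j : Fin 3, ((mh ^ (j : ℕ) : GL32) : Matrix (Fin 3) (Fin 3) (ZMod 2)).mulVec e0 = e0 := by
            decide
          have e : mh ^ i = mh ^ ((i % 3).toNat) := by
            conv_lhs => rw [← Int.emod_add_mul_ediv i 3, _root_.zpow_add, _root_.zpow_mul,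
              show mh ^ (3 : ℤ) = 1 from mh_three, _root_.one_zpow, mul_one]
            rw [← zpow_natCast, Int.toNat_of_nonneg (Int.emod_nonneg _ (by norm_num))]
          rw [e]
          exact this ⟨(i % 3).toNat, by omega⟩
        rw [D.equiv, v.2, hfix]
      letI : MulAction H X :=
        { smul := fun g v => ⟨(g : GL32) • v.1, hstab g v⟩
          one_smul := fun v => Subtype.ext (one_smul GL32 v.1)
          mul_smul := fun g g' v => Subtype.ext (mul_smul (g : GL32) (g' : GL32) v.1) }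
      have hH : IsPGroup 3 H := IsPGroup.iff_card.2 ⟨1, by
        rw [Nat.card_zpowers, pow_one]; exact orderOf_eq_prime mh_three mh_ne_one⟩
      have h := hH.card_modEq_card_fixedPoints X
      have hX : Nat.card X = 9 := by
        rw [Nat.card_eq_fintype_card, Fintype.card_subtype, ← hF, h9]
      have hfp : Nat.card (MulAction.fixedPoints H X) = Cf.card := by
        rw [Nat.card_eq_fintype_card, ← Fintype.card_coe]
        refine Fintype.card_congr
          { toFun := fun w => ⟨w.1.1, by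
              simp only [hCf, Finset.mem_filter, Finset.mem_univ, true_and]
              refine ⟨congrArg Subtype.val (w.2 ⟨mh, Subgroup.mem_zpowers mh⟩), fun e => ?_⟩
              have := w.1.2
              rw [e, D.Q_zero] at this
              exact absurd this (by decide)⟩
            invFun := fun w => ⟨⟨w.1, (Finset.mem_filter.1 (hsub w.2)).2⟩, fun g => Subtype.ext ?_⟩
            left_inv := fun w => rfl
            right_inv := fun w => rfl }
        show (g : GL32) • w.1 = w.1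
        have hw : mh • w.1 = w.1 := ((Finset.mem_filter.1 w.2).2).1
        have hle : H ≤ MulAction.stabilizer GL32 w.1 := by rw [Subgroup.zpowers_le]; exact hw
        exact hle g.2
      rw [hX, hfp] at h
      exact Nat.ModEq.symm h
  have hCf4 : 3 ≤ Cf.card := by
    have h0 : 0 < Cf.card := Finset.card_pos.2 ⟨a, by simp [hCf, ha, hah]⟩
    omega
  have hC4 : Nat.card C = 4 := by
    have hle : Cf.card ≤ 9 := h9 ▸ Finset.card_le_card hsub
    have hdvd : Nat.card C ∣ 64 := hcard ▸ AddSubgroup.card_addSubgroup_dvd_card C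
    rw [hCc] at hdvd ⊢
    obtain ⟨c, hc⟩ : ∃ c, Cf.card = c := ⟨_, rfl⟩
    rw [hc] at hdvd hle hCf4 hmod3 ⊢
    interval_cases c <;> omega
  -- `mx` acts on the fixed points of `mh`
  have hxC : ∀ v : V, mh • v = v → mh • mx • v = mx • v := fun v hv => by
    calc mh • mx • v = (mx * (mh * mh)) • v := by rw [← mul_smul, show mh * mx = mx * (mh * mh) from by decide]
      _ = _ := by rw [mul_smul, mul_smul, hv, hv]
  have hxx : ∀ v : V, mx • mx • v = v := fun v => by rw [← mul_smul, mx_two, one_smul]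
  -- a fixed vector of the stabiliser
  obtain ⟨v₀, hv₀, hh₀, hx₀, ht₀⟩ : ∃ c : V, c ≠ 0 ∧ mh • c = c ∧ mx • c = c ∧ mt1 • c = c := by
    by_contra hno
    push Not at hno
    obtain ⟨c, hc, hch, hcx⟩ : ∃ c : V, c ≠ 0 ∧ mh • c = c ∧ mx • c = c := by
      by_cases he : mx • a = a
      · exact ⟨a, ha, hah, he⟩
      refine ⟨a + mx • a, fun e => he (D.eq_of_add _ _ e).symm, by rw [smul_add, hah, hxC a hah], ?_⟩
      rw [smul_add, hxx, add_comm]
    have hall : ∀ d : V, mh • d = d → mt1 • d = d → mt3 • d = d ∧ mt2 • d = d := fun d hd h1 => by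
      have h3 : mt3 • d = d := by
        conv_lhs => rw [← hd, ← mul_smul, ← mh_mt1, mul_smul, h1, hd]
      refine ⟨h3, ?_⟩
      conv_lhs => rw [← hd, ← mul_smul, ← mh_mt3, mul_smul, h3, hd]
    have hfree : ∀ d : V, d ≠ 0 → mh • d = d → mt1 • d ≠ d := by
      intro d hd hdh h1
      by_cases hdx : mx • d = d
      · exact hno d hd hdh hdx h1
      have hxd : mt1 • mx • d = mx • d := by
        rw [← mul_smul, show mt1 * mx = mx * mt2 from by decide, mul_smul, (hall d hdh h1).2]
      refine hno (d + mx • d) (fun e => hdx (D.eq_of_add _ _ e).symm) (by rw [smul_add, hdh, hxC d hdh])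
        (by rw [smul_add, hxx, add_comm]) (by rw [smul_add, h1, hxd])
    have hfree2 : ∀ d : V, d ≠ 0 → mh • d = d → mt2 • d ≠ d ∧ mt3 • d ≠ d := by
      intro d hd hdh
      refine ⟨fun h2 => hfree d hd hdh ?_, fun h3 => hfree d hd hdh ?_⟩
      · conv_lhs => rw [← hdh, ← mul_smul, ← mh_mt2, mul_smul, h2, hdh]
      · have h2 : mt2 • d = d := by conv_lhs => rw [← hdh, ← mul_smul, ← mh_mt3, mul_smul, h3, hdh]
        conv_lhs => rw [← hdh, ← mul_smul, ← mh_mt2, mul_smul, h2, hdh]
    let T : Fin 4 → GL32 := ![1, mt1, mt2, mt3]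
    have hTe : ∀ i, ((T i : GL32) : Matrix (Fin 3) (Fin 3) (ZMod 2)).mulVec e0 = e0 := by decide
    have hTinv : ∀ i j, i ≠ j → ∃ k, k ≠ 0 ∧ T i * T j = T k := by decide
    have hTT : ∀ i, T i * T i = 1 := by decide
    have hTs : ∀ k, k ≠ 0 → ∃ k', k' ≠ 0 ∧ k' ≠ k ∧ mh * T k = T k' * mh := by decide
    have hTfree : ∀ (k : Fin 4) (d : V), k ≠ 0 → d ≠ 0 → mh • d = d → T k • d ≠ d := by
      intro k d hk hd hdh
      fin_cases k
      · exact absurd rfl hk
      · exact hfree d hd hdh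
      · exact (hfree2 d hd hdh).1
      · exact (hfree2 d hd hdh).2
    let f : Fin 4 × Cf → {v // v ∈ F} := fun x => ⟨T x.1 • (x.2 : V), by
      have h1 := Finset.mem_filter.1 (hsub x.2.2)
      simp only [hF, Finset.mem_filter, Finset.mem_univ, true_and]
      rw [D.equiv, h1.2, hTe]⟩
    have hf : Function.Injective f := by
      rintro ⟨i, d, hd⟩ ⟨j, d', hd'⟩ e
      have e' : T i • d = T j • d' := congrArg Subtype.val e
      simp only [hCf, Finset.mem_filter, Finset.mem_univ, true_and] at hd hd'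
      by_cases hij : i = j
      · subst hij
        simp only [Prod.mk.injEq, Subtype.mk.injEq, true_and]
        exact smul_left_cancel _ e'
      exfalso
      obtain ⟨k, hk, hkk⟩ := hTinv j i (Ne.symm hij)
      have hd2 : d' = T k • d := by
        rw [← hkk, mul_smul, e', ← mul_smul, hTT, one_smul]
      obtain ⟨k', hk', hne', hkh⟩ := hTs k hk
      have hd3 : d' = T k' • d := by
        conv_lhs => rw [← hd'.1, hd2, ← mul_smul, hkh, mul_smul, hd.1]
      obtain ⟨l, hl, hll⟩ := hTinv k' k hne'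
      refine hTfree l d hl hd.2 hd.1 ?_
      rw [← hll, mul_smul, ← hd2, hd3, ← mul_smul, hTT, one_smul]
    have h12 := Fintype.card_le_of_injective f hf
    rw [Fintype.card_prod, Fintype.card_fin, Fintype.card_coe, Fintype.card_coe, h9] at h12
    omega
  have ht2 : mt2 • v₀ = v₀ := by
    conv_lhs => rw [← hx₀, ← mul_smul, ← mx_mt1, mul_smul, ht₀, hx₀]
  obtain ⟨v₁, hv₁, hv₁0, hv₁h⟩ : ∃ v₁ : V, v₁ ≠ 0 ∧ v₁ ≠ v₀ ∧ mh • v₁ = v₁ := by
    obtain ⟨d, hd, hne⟩ := Finset.exists_mem_ne (by omega : 1 < Cf.card) v₀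
    simp only [hCf, Finset.mem_filter, Finset.mem_univ, true_and] at hd
    exact ⟨d, hd.2, hne, hd.1⟩
  have hQ0 := D.Q_of_fix hv₀ hh₀
  have hQ1 := D.Q_of_fix hv₁ hv₁h
  refine ⟨v₀, v₁, hQ0, hQ1, ⟨hh₀, hx₀, ht₀, ht2⟩, ?_, ?_⟩
  · by_contra hcon
    push Not at hcon
    have hmem : mx • v₁ ∈ C := hxC v₁ hv₁h
    have hs : v₁ + v₀ ≠ 0 := fun e => hv₁0 (D.eq_of_add _ _ e)
    have hm0 : mx • v₁ ≠ 0 := fun e => hv₁ (by rw [← hxx v₁, e, smul_zero])
    have hm1 : mx • v₁ ≠ v₀ := fun e => hv₁0 (by rw [← hxx v₁, e, hx₀])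
    have h5 : ({0, v₀, v₁, v₁ + v₀, mx • v₁} : Finset V).card = 5 := by
      simp [hv₀, hv₁, hv₁0, hs, hm0, hm1, hcon.1, hcon.2, hv₀.symm, hv₁.symm, hv₁0.symm, hs.symm, hm0.symm,
        hm1.symm, Ne.symm hcon.1, Ne.symm hcon.2]
    have hsub5 : ({0, v₀, v₁, v₁ + v₀, mx • v₁} : Finset V) ⊆ Finset.univ.filter fun v => v ∈ C := by
      intro z hz
      simp only [Finset.mem_insert, Finset.mem_singleton] at hz
      simp only [Finset.mem_filter, Finset.mem_univ, true_and]
      rcases hz with rfl | rfl | rfl | rfl | rfl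
      exacts [C.zero_mem, hh₀, hv₁h, C.add_mem hv₁h hh₀, hmem]
    have h4 := Finset.card_le_card hsub5
    rw [h5, ← Fintype.card_subtype, ← Nat.card_eq_fintype_card] at h4
    omega
  · have hs : v₀ + v₁ ≠ 0 := fun e => hv₁0 (D.eq_of_add _ _ e).symm
    rw [D.B_eq, D.Q_of_fix hs (by rw [smul_add, hh₀, hv₁h]), hQ0, hQ1, W3.add_self, zero_add]

theorem stab_fix {v₀ : V} (h : mh • v₀ = v₀ ∧ mx • v₀ = v₀ ∧ mt1 • v₀ = v₀ ∧ mt2 • v₀ = v₀) (A : GL32)
    (hA : (A : Matrix (Fin 3) (Fin 3) (ZMod 2)).mulVec e0 = e0) : A • v₀ = v₀ := by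
  set M := (A : Matrix (Fin 3) (Fin 3) (ZMod 2)) with hM
  have h0 : M 0 0 = 1 := by simpa [e0, mulVec, dotProduct, Fin.sum_univ_three] using congrFun hA 0
  have h1 : M 1 0 = 0 := by simpa [e0, mulVec, dotProduct, Fin.sum_univ_three] using congrFun hA 1
  have h2 : M 2 0 = 0 := by simpa [e0, mulVec, dotProduct, Fin.sum_univ_three] using congrFun hA 2
  have hdet : M.det ≠ 0 := ((Matrix.isUnit_iff_isUnit_det M).1 A.isUnit).ne_zero
  rw [Matrix.det_fin_three, h0, h1, h2] at hdet
  obtain ⟨i, j, l, k, e⟩ := stab_words (M 0 1) (M 0 2) (M 1 1) (M 1 2) (M 2 1) (M 2 2) (by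
    intro e; apply hdet; linear_combination e)
  have hA' : A = mt1 ^ (i : ℕ) * mt2 ^ (j : ℕ) * mh ^ (k : ℕ) * mx ^ (l : ℕ) := by
    refine Units.ext ?_
    rw [← e]
    ext r s
    fin_cases r <;> fin_cases s <;> simp [← hM, h0, h1, h2]
  let S := MulAction.stabilizer GL32 v₀
  have hmem : A ∈ S := by
    rw [hA']
    exact mul_mem (mul_mem (mul_mem (pow_mem h.2.2.1 _) (pow_mem h.2.2.2 _)) (pow_mem h.1 _)) (pow_mem h.2.1 _)
  exact hmem

theorem false_of_card (hcard : Nat.card V = 8 ∨ Nat.card V = 64) : False := by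
  classical
  haveI : Fintype V := Fintype.ofFinite V
  have hne : ∃ v : V, v ≠ 0 := by
    haveI : Nontrivial V := Finite.one_lt_card_iff_nontrivial.1 (by omega)
    exact exists_ne 0
  -- a vector over `e0` fixed by the stabiliser
  obtain ⟨v₀, hQ0, hfix, hext⟩ : ∃ v₀ : V, D.Q v₀ = e0 ∧
      (∀ A : GL32, (A : Matrix (Fin 3) (Fin 3) (ZMod 2)).mulVec e0 = e0 → A • v₀ = v₀) ∧
      (Nat.card V = 8 ∨ ∃ v₁, D.Q v₁ = e0 ∧ (mx • v₁ = v₁ ∨ mx • v₁ = v₁ + v₀) ∧ D.B v₀ v₁ = e0) := by
    rcases hcard with h8 | h64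
    · obtain ⟨v, hv⟩ := D.exists_over hne e0
      have hbij : Function.Bijective D.Q := by
        refine (Fintype.bijective_iff_surjective_and_card _).2 ⟨D.exists_over hne, ?_⟩
        rw [← Nat.card_eq_fintype_card, h8]
        decide
      exact ⟨v, hv, fun A hA => hbij.1 (by rw [D.equiv, hv, hA]), Or.inl h8⟩
    · obtain ⟨v₀, v₁, h0, h1, hf, hx, hB⟩ := D.exists_good h64
      exact ⟨v₀, h0, fun A hA => D.stab_fix hf A hA, Or.inr ⟨v₁, h1, hx, hB⟩⟩
  have hrep : ∀ p : W3, p ≠ 0 → ∃ g : GL32, (g : Matrix (Fin 3) (Fin 3) (ZMod 2)).mulVec e0 = p :=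
    fun p hp => ⟨_, (orbit_mn p hp).choose_spec⟩
  let w : W3 → V := fun p => if hp : p = 0 then 0 else (hrep p hp).choose • v₀
  have hw : ∀ (A : GL32) (p : W3), (A : Matrix (Fin 3) (Fin 3) (ZMod 2)).mulVec e0 = p → w p = A • v₀ := by
    intro A p hA
    have hp : p ≠ 0 := fun e => by
      rw [e, mulVec_eq_zero_iff] at hA
      exact absurd hA (by decide)
    simp only [w, dif_neg hp]
    set g := (hrep p hp).choose
    have hg : (g : Matrix (Fin 3) (Fin 3) (ZMod 2)).mulVec e0 = p := (hrep p hp).choose_spec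
    have h := hfix (A⁻¹ * g) (by
      rw [Units.val_mul, ← mulVec_mulVec, hg, ← hA, mulVec_mulVec, ← Units.val_mul, inv_mul_cancel,
        Units.val_one, one_mulVec])
    rw [mul_smul, inv_smul_eq_iff] at h
    exact h
  have hwQ : ∀ p, D.Q (w p) = p := by
    intro p
    by_cases hp : p = 0
    · simp [w, hp, D.Q_zero]
    · obtain ⟨g, hg⟩ := hrep p hp
      rw [hw g p hg, D.equiv, hQ0, hg]
  have hwsmul : ∀ (A : GL32) p, w ((A : Matrix (Fin 3) (Fin 3) (ZMod 2)).mulVec p) = A • w p := by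
    intro A p
    by_cases hp : p = 0
    · simp [w, hp]
    · obtain ⟨g, hg⟩ := hrep p hp
      rw [hw g p hg, hw (A * g) _ (by rw [Units.val_mul, ← mulVec_mulVec, hg]), mul_smul]
  have hBw : ∀ p q, D.B (w p) (w q) = 0 := by
    intro p q
    by_cases hp : p = 0
    · rw [show w p = 0 by simp [w, hp], D.B_symm, D.B_zero]
    by_cases hq : q = 0
    · rw [show w q = 0 by simp [w, hq], D.B_zero]
    by_cases hpq : p = q
    · rw [hpq, D.B_self]
    obtain ⟨r, hr⟩ := pair_extend p q hp hq hpq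
    have hu : IsUnit (Matrix.of ![p, q, r]).transpose := (Matrix.isUnit_iff_isUnit_det _).2 (by
      rw [Matrix.det_transpose]; exact isUnit_iff_ne_zero.2 hr)
    have hA0 : (hu.unit : Matrix (Fin 3) (Fin 3) (ZMod 2)).mulVec e0 = p := by
      rw [IsUnit.unit_spec]; ext i; simp [e0, mulVec, dotProduct, Fin.sum_univ_three]
    have hA1 : (hu.unit : Matrix (Fin 3) (Fin 3) (ZMod 2)).mulVec e1 = q := by
      rw [IsUnit.unit_spec]; ext i; simp [e1, mulVec, dotProduct, Fin.sum_univ_three]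
    have hpq' := D.B_smul hu.unit (w e0) (w e1)
    rw [← hwsmul, ← hwsmul, hA0, hA1] at hpq'
    suffices h : D.B (w e0) (w e1) = 0 by rw [hpq', h, mulVec_zero]
    have hs := D.B_smul ms (w e0) (w e1)
    have hsw := D.B_smul msw (w e0) (w e1)
    rw [← hwsmul, ← hwsmul, show ((ms : GL32) : Matrix (Fin 3) (Fin 3) (ZMod 2)).mulVec e0 = e0 from by decide,
      show ((ms : GL32) : Matrix (Fin 3) (Fin 3) (ZMod 2)).mulVec e1 = e1 from by decide] at hs
    rw [← hwsmul, ← hwsmul, show ((msw : GL32) : Matrix (Fin 3) (Fin 3) (ZMod 2)).mulVec e0 = e1 from by decide,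
      show ((msw : GL32) : Matrix (Fin 3) (Fin 3) (ZMod 2)).mulVec e1 = e0 from by decide, D.B_symm] at hsw
    have hne01 : w e0 ≠ w e1 := fun e => absurd ((hwQ e0).symm.trans ((congrArg D.Q e).trans (hwQ e1)))
      (by decide)
    have hQs : D.Q (w e0 + w e1) ≠ 0 := fun e => hne01 (D.eq_of_add _ _ ((D.zero _).1 e))
    rw [D.polar, hwQ, hwQ] at hQs
    generalize D.B (w e0) (w e1) = b at hs hsw hQs
    revert b
    decide
  have hwadd : ∀ p q, w (p + q) = w p + w q := by
    intro p q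
    refine (D.eq_of_add _ _ ((D.zero _).1 ?_))
    rw [D.polar, D.polar (w p), hwQ, hwQ, hwQ, hBw p q, add_zero, W3.add_self, zero_add, D.right, hBw, hBw,
      add_zero]
  rcases hext with h8 | ⟨v₁, hQ1, hx1, hB1⟩
  · have hbij : Function.Bijective D.Q := by
      refine (Fintype.bijective_iff_surjective_and_card _).2 ⟨D.exists_over hne, ?_⟩
      rw [← Nat.card_eq_fintype_card, h8]
      decide
    obtain ⟨u, hu⟩ := D.rad v₀ fun e => absurd (hQ0.symm.trans (e ▸ D.Q_zero)) (by decide)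
    have he : ∀ v, v = w (D.Q v) := fun v => hbij.1 (hwQ _).symm
    rw [he v₀, he u, hBw] at hu
    exact hu rfl
  -- the trace
  let φ : V → Matrix (Fin 3) (Fin 3) (ZMod 2) := fun v => Matrix.of fun i j => D.B (w (Pi.single j 1)) v i
  have hφ : ∀ v p, (φ v).mulVec p = D.B (w p) v := by
    intro v p
    let L : W3 →+ W3 :=
      { toFun := fun p => D.B (w p) v
        map_zero' := by simp [w, D.B_symm _ v, D.B_zero]
        map_add' := fun a b => by rw [hwadd, D.left] }
    have hsingle : ∀ j (c : ZMod 2), L (Pi.single j c) = c • L (Pi.single j 1) := by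
      intro j c
      rcases (by decide : ∀ c : ZMod 2, c = 0 ∨ c = 1) c with rfl | rfl
      · rw [Pi.single_zero, map_zero, zero_smul]
      · rw [one_smul]
    show (φ v).mulVec p = L p
    conv_rhs => rw [← Finset.univ_sum_single p, map_sum]
    ext i
    rw [Finset.sum_apply, mulVec, dotProduct]
    refine Finset.sum_congr rfl fun j _ => ?_
    rw [hsingle, Pi.smul_apply, smul_eq_mul, mul_comm]
    rfl
  have hφadd : ∀ u v, φ (u + v) = φ u + φ v := fun u v => Matrix.ext fun i j => by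
    simp [φ, D.right]
  have hφsmul : ∀ (A : GL32) v, φ (A • v) =
      (A : Matrix (Fin 3) (Fin 3) (ZMod 2)) * φ v * ((A⁻¹ : GL32) : Matrix (Fin 3) (Fin 3) (ZMod 2)) := by
    intro A v
    refine Matrix.toLin'.injective (LinearMap.ext fun p => ?_)
    rw [Matrix.toLin'_apply, Matrix.toLin'_apply, ← mulVec_mulVec, ← mulVec_mulVec, hφ, hφ, ← D.B_smul,
      ← hwsmul, mulVec_mulVec, ← Units.val_mul, mul_inv_cancel, Units.val_one, one_mulVec]
  have hT : ∀ v, (φ v).trace = 0 := by
    intro v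
    let T : V →+ ZMod 2 :=
      { toFun := fun v => (φ v).trace
        map_zero' := by
          have : φ 0 = 0 := Matrix.ext fun i j => by simp [φ, D.B_zero]
          rw [this, Matrix.trace_zero]
        map_add' := fun a b => by rw [hφadd, Matrix.trace_add] }
    have h := congrArg T (D.sum_mn v)
    rw [map_sum, map_zero] at h
    have hc : ∀ i : ℕ, T (mn ^ i • v) = T v := fun i => by
      show (φ _).trace = (φ v).trace
      rw [hφsmul, Matrix.trace_units_conj]
    simp only [hc, Finset.sum_const, Finset.card_range] at h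
    rwa [show ((7 : ℕ) • T v) = T v from by
      generalize T v = c
      revert c
      decide] at h
  have h1 : (φ v₁).mulVec e0 = e0 := by
    rw [hφ, hw 1 e0 (by simp), one_smul, hB1]
  have hxc : (mx : Matrix (Fin 3) (Fin 3) (ZMod 2)) * φ v₁ = φ v₁ * (mx : Matrix (Fin 3) (Fin 3) (ZMod 2)) := by
    have hv0 : φ v₀ = 0 := Matrix.ext fun i j => by
      have : D.B (w (Pi.single j 1)) v₀ = 0 := by
        rw [← one_smul GL32 v₀, ← hw 1 e0 (by simp), hBw]
      simp [φ, this]
    have hxφ : φ (mx • v₁) = φ v₁ := by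
      rcases hx1 with e | e
      · rw [e]
      · rw [e, hφadd, hv0, add_zero]
    rw [hφsmul] at hxφ
    conv_rhs => rw [← hxφ]
    rw [Matrix.mul_assoc _ _ (mx : Matrix (Fin 3) (Fin 3) (ZMod 2)), ← Units.val_mul, inv_mul_cancel,
      Units.val_one, Matrix.mul_one]
  have h11 := hT v₁
  have ha : φ v₁ 0 0 = 1 := by
    simpa [e0, mulVec, dotProduct, Fin.sum_univ_three] using congrFun h1 0
  have hb : φ v₁ 2 2 = φ v₁ 1 1 := by
    simpa [mx, Matrix.mul_apply, Fin.sum_univ_three] using congrFun (congrFun hxc 1) 2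
  rw [Matrix.trace_fin_three, ha, hb, add_assoc, CharTwo.add_self_eq_zero, add_zero] at h11
  exact one_ne_zero h11

end QuadMod

end Cfsg.Agent.Pyramidal
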