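import Mathlib
import Cfsg.Agent.Lib.Pyramidal.Abelian
import Cfsg.Agent.Lib.Pyramidal.Suzuki
import Cfsg.Agent.S1138
import Cfsg.Agent.S3776

/-!
No group has quotient `GL(3, 2)` by a 2-group whose involutions form the natural module and exhaust the
involutions of the group.
-/

set_option autoImplicit false
set_option linter.style.haveILetI false
set_option linter.unusedSectionVars false

namespace Cfsg.Agent.Pyramidal

open Matrix Subgroup

universe u

variable {G : Type u} [Group G] [Finite G] {E : Subgroup G}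

theorem mn_regular : ∀ (i j : Fin 7) (p : W3), p ≠ 0 →
    ((mn ^ (i : ℕ) : GL32) : Matrix (Fin 3) (Fin 3) (ZMod 2)).mulVec p =
      ((mn ^ (j : ℕ) : GL32) : Matrix (Fin 3) (Fin 3) (ZMod 2)).mulVec p → i = j := by
  decide

/-- There is no such frame. -/
theorem Frame.false (F : Frame E) : False := by
  classical
  set R := F.ρ.ker with hR
  by_cases hab : ∀ x ∈ R, ∀ y ∈ R, x * y = y * x
  · exact F.not_abelian hab
  have hna : ∃ x y : R, x * y ≠ y * x := by
    push Not at hab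
    obtain ⟨x, hx, y, hy, h⟩ := hab
    exact ⟨⟨x, hx⟩, ⟨y, hy⟩, fun e => h (congrArg Subtype.val e)⟩
  obtain ⟨m, hm⟩ := IsPGroup.iff_card.1 F.two
  -- a lift of order seven
  obtain ⟨g, hg7, hgρ⟩ : ∃ g : G, g ^ 7 = 1 ∧ F.ρ g = mn := by
    obtain ⟨g₀, hg₀⟩ := F.surj mn
    refine ⟨g₀ ^ 8 ^ m, ?_, ?_⟩
    · have h7 : g₀ ^ 7 ∈ R := by rw [hR, MonoidHom.mem_ker, map_pow, hg₀, mn_seven]
      rw [← pow_mul, mul_comm, pow_mul]
      have h2 : (⟨_, h7⟩ : R) ^ 8 ^ m = 1 := by
        rw [show (8 : ℕ) ^ m = 2 ^ m * 4 ^ m by rw [← mul_pow]; norm_num, pow_mul, ← hm, pow_card_eq_one', one_pow]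
      exact congrArg Subtype.val h2
    · rw [map_pow, hg₀]
      clear hm hg₀
      induction m with
      | zero => simp
      | succ m ih => rw [pow_succ, pow_mul, ih]; decide
  let α : MulAut R := MulAut.conjNormal g
  have hα : ∀ (i : ℕ) (x : R), (((α ^ i) x : R) : G) = g ^ i * (x : G) * (g ^ i)⁻¹ := fun i x => by
    rw [show α ^ i = MulAut.conjNormal (g ^ i) from (map_pow _ _ _).symm, MulAut.conjNormal_apply]
  have hα7 : α ^ 7 = 1 := by
    rw [show α ^ 7 = MulAut.conjNormal (g ^ 7) from (map_pow _ _ _).symm, hg7, map_one]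
  have hinv : ∀ x : R, x * x = 1 ↔ (x : G) ∈ E := fun x => by
    rw [← F.mem, Subtype.ext_iff]; rfl
  have hψR : ∀ p, F.ψ p ∈ R := fun p => F.le_ker (F.ψ_mem p)
  have hψα : ∀ (i : ℕ) p, (α ^ i) ⟨F.ψ p, hψR p⟩ =
      ⟨F.ψ (((mn ^ i : GL32) : Matrix (Fin 3) (Fin 3) (ZMod 2)).mulVec p), hψR _⟩ := fun i p =>
    Subtype.ext (by rw [hα, F.equiv, map_pow, hgρ])
  have hinv' : ∀ x : R, x ≠ 1 → x * x = 1 → ∃ p : W3, p ≠ 0 ∧ x = ⟨F.ψ p, hψR p⟩ := by
    intro x hx1 hx2
    obtain ⟨p, hp⟩ := F.ψ_surj _ ((hinv x).1 hx2)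
    exact ⟨p, fun h => hx1 (Subtype.ext (by rw [← hp, h, F.ψ_zero]; rfl)), Subtype.ext hp.symm⟩
  have htrans : ∀ x y : R, x ≠ 1 → x * x = 1 → y ≠ 1 → y * y = 1 → ∃! k : zpowers α, (k : MulAut R) x = y := by
    intro x y hx1 hx2 hy1 hy2
    obtain ⟨p, hp, rfl⟩ := hinv' x hx1 hx2
    obtain ⟨q, hq, rfl⟩ := hinv' y hy1 hy2
    obtain ⟨i, hi⟩ := orbit_mn p hp
    obtain ⟨j, hj⟩ := orbit_mn q hq
    have hpq : ∃ k : Fin 7, ((mn ^ (k : ℕ) : GL32) : Matrix (Fin 3) (Fin 3) (ZMod 2)).mulVec p = q := by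
      revert hi hj
      clear hx1 hx2 hy1 hy2 hp hq
      revert i j p q
      decide
    obtain ⟨k, hk⟩ := hpq
    refine ⟨⟨α ^ (k : ℕ), npow_mem_zpowers α k⟩, by show (α ^ (k : ℕ)) _ = _; rw [hψα]; exact Subtype.ext (by rw [hk]), ?_⟩
    rintro ⟨β, hβ⟩ he
    obtain ⟨l, rfl⟩ : ∃ l : Fin 7, β = α ^ (l : ℕ) := by
      obtain ⟨z, rfl⟩ := Subgroup.mem_zpowers_iff.1 hβ
      refine ⟨⟨(z % 7).toNat, by omega⟩, ?_⟩
      conv_lhs => rw [← Int.emod_add_mul_ediv z 7, _root_.zpow_add, _root_.zpow_mul,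
        show α ^ (7 : ℤ) = 1 from hα7, _root_.one_zpow, mul_one,
        ← Int.toNat_of_nonneg (Int.emod_nonneg z (by norm_num : (7 : ℤ) ≠ 0)), zpow_natCast]
    change (α ^ (l : ℕ)) _ = _ at he
    rw [hψα] at he
    have h1 := F.ψ_inj (congrArg Subtype.val he)
    rw [← hk] at h1
    obtain rfl := mn_regular l k p hp h1
    rfl
  have htwo : ∃ x y : R, x ≠ y ∧ x ≠ 1 ∧ x * x = 1 ∧ y ≠ 1 ∧ y * y = 1 := by
    have hne : ∀ p : W3, p ≠ 0 → (⟨F.ψ p, hψR p⟩ : R) ≠ 1 := fun p hp h =>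
      hp (F.ψ_inj ((congrArg Subtype.val h).trans F.ψ_zero.symm))
    refine ⟨⟨_, hψR e0⟩, ⟨_, hψR e1⟩, fun h => absurd (F.ψ_inj (congrArg Subtype.val h)) (by decide),
      hne _ (by decide), (hinv _).2 (F.ψ_mem _), hne _ (by decide), (hinv _).2 (F.ψ_mem _)⟩
  have hsuz : Cfsg.IsSuzukiTwoGroup R :=
    ⟨inferInstance, F.two, hna, htwo, zpowers α, inferInstance, htrans⟩
  obtain ⟨hsqc, hcomc, hcard, -⟩ := S1138.result hsuz
  have hnc : ¬ IsMulCommutative R := fun h => by
    obtain ⟨x, y, hxy⟩ := hna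
    exact hxy (h.is_comm.comm x y)
  obtain ⟨-, -, hcen⟩ := S3776.result F.two hnc (by simpa only [pow_two] using htwo)
    ⟨zpowers α, inferInstance, fun x y hx hx2 hy hy2 => by
      obtain ⟨k, hk, -⟩ := htrans x y hx (by rwa [← pow_two]) hy (by rwa [← pow_two])
      exact ⟨k, k.2, hk⟩⟩
  have hZ : ∀ x : R, x ∈ center R ↔ x * x = 1 := fun x => by rw [hcen, pow_two]
  have hZ8 : Nat.card (center R) = 8 := by
    let ψ' : W3 → center R := fun p => ⟨⟨F.ψ p, hψR p⟩, (hZ _).2 ((hinv _).2 (F.ψ_mem p))⟩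
    have hb : Function.Bijective ψ' := by
      refine ⟨fun p q h => F.ψ_inj (congrArg (fun z : center R => ((z : R) : G)) h), fun z => ?_⟩
      obtain ⟨p, hp⟩ := F.ψ_surj _ ((hinv _).1 ((hZ _).1 z.2))
      exact ⟨p, Subtype.ext (Subtype.ext hp)⟩
    rw [← Nat.card_eq_of_bijective ψ' hb, Nat.card_eq_fintype_card]
    decide
  -- the module
  letI : CommGroup (R ⧸ center R) :=
    { (inferInstance : Group (R ⧸ center R)) with
      mul_comm := fun a b => by
        induction a using QuotientGroup.induction_on with | H x => ?_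
        induction b using QuotientGroup.induction_on with | H y => ?_
        rw [← QuotientGroup.mk_mul, ← QuotientGroup.mk_mul, eq_comm, QuotientGroup.eq]
        rw [show (y * x)⁻¹ * (x * y) = x⁻¹ * y⁻¹ * x * y by group]
        exact hcomc x y }
  set V := Additive (R ⧸ center R) with hV
  let mk : R → V := fun x => Additive.ofMul (x : R ⧸ center R)
  have mk_surj : ∀ v : V, ∃ x, mk x = v := fun v => QuotientGroup.mk_surjective v.toMul
  have mk_mul : ∀ x y, mk (x * y) = mk x + mk y := fun x y => rfl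
  have mk_eq : ∀ x y, mk x = mk y ↔ x⁻¹ * y ∈ center R := fun x y => QuotientGroup.eq
  have mk_zero : ∀ x, mk x = 0 ↔ x ∈ center R := fun x => QuotientGroup.eq_one_iff x
  let cj : G → R →* R ⧸ center R := fun h => (QuotientGroup.mk' (center R)).comp (MulAut.conjNormal h).toMonoidHom
  have hcjZ : ∀ h, center R ≤ (cj h).ker := fun h z hz => by
    rw [MonoidHom.mem_ker]
    refine (QuotientGroup.eq_one_iff _).2 ?_
    show MulAut.conjNormal h z ∈ center R
    rw [hZ, ← map_mul, (hZ z).1 hz, map_one]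
  let act : GL32 → V →+ V := fun A =>
    MonoidHom.toAdditive (QuotientGroup.lift (center R) (cj (Function.surjInv F.surj A)) (hcjZ _))
  have hact : ∀ h x, act (F.ρ h) (mk x) = mk (MulAut.conjNormal h x) := by
    intro h x
    set h' := Function.surjInv F.surj (F.ρ h) with hh'
    have hr : h⁻¹ * h' ∈ R := by
      rw [hR, MonoidHom.mem_ker, map_mul, map_inv, hh', Function.surjInv_eq F.surj, inv_mul_cancel]
    show mk (MulAut.conjNormal h' x) = _
    have he : MulAut.conjNormal h' x = MulAut.conjNormal h (⟨_, hr⟩ * x * (⟨_, hr⟩ : R)⁻¹) := by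
      refine Subtype.ext ?_
      rw [MulAut.conjNormal_apply, MulAut.conjNormal_apply]
      show h' * (x : G) * h'⁻¹ = h * (h⁻¹ * h' * (x : G) * (h⁻¹ * h')⁻¹) * h⁻¹
      group
    rw [he]
    set r : R := ⟨_, hr⟩
    rw [mk_eq]
    have hc : r * x⁻¹ * r⁻¹ * x ∈ center R := by
      have h0 := hcomc r⁻¹ x
      rwa [inv_inv] at h0
    rw [← map_inv, ← map_mul, show (r * x * r⁻¹)⁻¹ * x = r * x⁻¹ * r⁻¹ * x by group, hZ, ← map_mul,
      (hZ _).1 hc, map_one]
  letI : DistribMulAction GL32 V :=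
    { smul := fun A v => act A v
      one_smul := fun v => by
        obtain ⟨x, rfl⟩ := mk_surj v
        show act 1 (mk x) = mk x
        rw [← map_one F.ρ, hact, map_one]
        rfl
      mul_smul := fun A B v => by
        obtain ⟨x, rfl⟩ := mk_surj v
        obtain ⟨a, rfl⟩ := F.surj A
        obtain ⟨b, rfl⟩ := F.surj B
        show act (F.ρ a * F.ρ b) (mk x) = act (F.ρ a) (act (F.ρ b) (mk x))
        rw [← map_mul, hact, hact, hact, map_mul]
        rfl
      smul_zero := fun A => map_zero (act A)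
      smul_add := fun A v w => map_add (act A) v w }
  have hE : ∀ x : R, ((x * x : R) : G) ∈ E := fun x => (hinv _).1 ((hZ _).1 (hsqc x))
  choose sq hsq using fun x : R => F.ψ_surj _ (hE x)
  have sq_inv : ∀ x y : R, mk x = mk y → sq x = sq y := by
    intro x y h
    refine F.ψ_inj ?_
    rw [hsq, hsq]
    refine congrArg Subtype.val ?_
    have hz := (mk_eq x y).1 h
    obtain ⟨z, rfl⟩ : ∃ z, y = x * z := ⟨x⁻¹ * y, by group⟩
    rw [inv_mul_cancel_left] at hz
    calc x * x = x * x * (z * z) := by rw [(hZ z).1 hz, mul_one]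
      _ = x * (x * z) * z := by group
      _ = x * (z * x) * z := by rw [mem_center_iff.1 hz x]
      _ = x * z * (x * z) := by group
  let out : V → R := fun v => (mk_surj v).choose
  let Q : V → W3 := fun v => sq (out v)
  have hQ : ∀ x, Q (mk x) = sq x := fun x => sq_inv _ _ (mk_surj (mk x)).choose_spec
  let B : V → V → W3 := fun v w => Q (v + w) + Q v + Q w
  have add_self3 : ∀ a : W3, a + a = 0 := fun a => funext fun i => CharTwo.add_self_eq_zero (a i)
  have hB : ∀ x y : R, F.ψ (B (mk x) (mk y)) = ((y * x * y⁻¹ * x⁻¹ : R) : G) := by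
    intro x y
    show F.ψ (Q (mk x + mk y) + Q (mk x) + Q (mk y)) = _
    rw [← mk_mul, hQ, hQ, hQ, F.ψ_add, F.ψ_add, hsq, hsq, hsq, ← Subgroup.coe_mul, ← Subgroup.coe_mul]
    refine congrArg Subtype.val ?_
    have hx := (hZ _).1 (hsqc x)
    have hy := (hZ _).1 (hsqc y)
    obtain ⟨c, hc, hcd⟩ : ∃ c ∈ center R, c = y * x * y⁻¹ * x⁻¹ := by
      refine ⟨_, ?_, rfl⟩
      simpa only [inv_inv] using hcomc y⁻¹ x⁻¹
    have hyx : y * x = c * (x * y) := by rw [hcd]; group
    rw [← hcd]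
    calc x * y * (x * y) * (x * x) * (y * y) = x * (y * x) * y * (x * x) * (y * y) := by group
      _ = c * ((x * x) * (y * y) * ((x * x) * (y * y))) := by
        rw [hyx, ← mul_assoc x c, mem_center_iff.1 hc x]; group
      _ = c := by
        rw [mul_assoc (x * x) (y * y), ← mul_assoc (y * y) (x * x), mem_center_iff.1 (hsqc x) (y * y),
          mul_assoc (x * x) (y * y) (y * y), hy, mul_one, hx, mul_one]
  let D : QuadMod V :=
    { two := fun v => by
        obtain ⟨x, rfl⟩ := mk_surj v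
        rw [← mk_mul, mk_zero]
        exact hsqc x
      Q := Q
      B := B
      zero := fun v => by
        obtain ⟨x, rfl⟩ := mk_surj v
        rw [hQ, mk_zero, hZ]
        refine ⟨fun h => Subtype.ext ?_, fun h => F.ψ_inj ?_⟩
        · rw [← hsq, h, F.ψ_zero]; rfl
        · rw [hsq, h, F.ψ_zero]; rfl
      equiv := fun A v => by
        obtain ⟨x, rfl⟩ := mk_surj v
        obtain ⟨a, rfl⟩ := F.surj A
        show Q (act (F.ρ a) (mk x)) = _
        rw [hact, hQ, hQ]
        refine F.ψ_inj ?_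
        rw [hsq, ← F.equiv, hsq, ← map_mul, MulAut.conjNormal_apply]
      polar := fun v w => by
        show Q (v + w) = Q v + Q w + (Q (v + w) + Q v + Q w)
        calc Q (v + w) = (Q v + Q v) + (Q w + Q w) + Q (v + w) := by rw [add_self3, add_self3, add_zero, zero_add]
          _ = _ := by abel
      left := fun u v w => by
        obtain ⟨x, rfl⟩ := mk_surj u
        obtain ⟨y, rfl⟩ := mk_surj v
        obtain ⟨z, rfl⟩ := mk_surj w
        refine F.ψ_inj ?_
        show F.ψ (B (mk x + mk y) (mk z)) = F.ψ (B (mk x) (mk z) + B (mk y) (mk z))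
        rw [← mk_mul, hB, F.ψ_add, hB, hB, ← Subgroup.coe_mul]
        refine congrArg Subtype.val ?_
        have hc : z * y * z⁻¹ * y⁻¹ ∈ center R := by simpa only [inv_inv] using hcomc z⁻¹ y⁻¹
        calc z * (x * y) * z⁻¹ * (x * y)⁻¹ = z * x * z⁻¹ * ((z * y * z⁻¹ * y⁻¹) * x⁻¹) := by group
          _ = z * x * z⁻¹ * (x⁻¹ * (z * y * z⁻¹ * y⁻¹)) := by rw [mem_center_iff.1 hc x⁻¹]
          _ = _ := by group
      rad := fun v hv => by
        obtain ⟨x, rfl⟩ := mk_surj v
        have hx : x ∉ center R := fun h => hv ((mk_zero x).2 h)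
        obtain ⟨y, hy⟩ : ∃ y, y * x ≠ x * y := by
          by_contra hcon
          push Not at hcon
          exact hx (mem_center_iff.2 hcon)
        refine ⟨mk y, fun h => hy ?_⟩
        have h1 := hB x y
        rw [h, F.ψ_zero] at h1
        have h2 : y * x * y⁻¹ * x⁻¹ = 1 := Subtype.ext h1.symm
        calc y * x = y * x * y⁻¹ * x⁻¹ * (x * y) := by group
          _ = x * y := by rw [h2, one_mul] }
  refine D.false_of_card ?_
  have hcV : Nat.card V * 8 = Nat.card R := by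
    rw [← hZ8]
    exact (Subgroup.card_eq_card_quotient_mul_card_subgroup (center R)).symm
  rw [hZ8] at hcard
  omega

end Cfsg.Agent.Pyramidal
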