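import Mathlib

/-!
Elements of odd prime order and elements normalising them lift through a surjection with a 2-group as
kernel; three such elements give an involution outside the kernel.
-/

set_option autoImplicit false
set_option linter.style.haveILetI false
set_option linter.unusedSectionVars false

namespace Cfsg.Agent.Pyramidal

open Subgroup

universe u v

theorem exists_conj_zpowers {H : Type u} [Group H] [Finite H] {m r : ℕ} (hr : r.Prime) (hr2 : r ≠ 2)
    (hc : Nat.card H = 2 ^ m * r) {g₁ g₂ : H} (h₁ : orderOf g₁ = r) (h₂ : orderOf g₂ = r) :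
    ∃ h : H, h * g₁ * h⁻¹ ∈ zpowers g₂ := by
  haveI := Fact.mk hr
  have hf : (Nat.card H).factorization r = 1 := by
    rw [hc, Nat.factorization_mul (by positivity) hr.ne_zero, Finsupp.add_apply, hr.factorization_self,
      Nat.Prime.factorization_pow Nat.prime_two, Finsupp.single_eq_of_ne hr2, zero_add]
  let P₁ : Sylow r H := Sylow.ofCard (zpowers g₁) (by rw [Nat.card_zpowers, h₁, hf, pow_one])
  let P₂ : Sylow r H := Sylow.ofCard (zpowers g₂) (by rw [Nat.card_zpowers, h₂, hf, pow_one])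
  obtain ⟨h, hh⟩ := MulAction.exists_smul_eq H P₁ P₂
  refine ⟨h, ?_⟩
  have h1 : h * g₁ * h⁻¹ ∈ ((h • P₁ : Sylow r H) : Subgroup H) := by
    rw [Sylow.coe_subgroup_smul]
    exact smul_mem_pointwise_smul g₁ (MulAut.conj h) _ (mem_zpowers g₁)
  rw [hh] at h1
  exact h1

theorem mem_normalizer_zpowers {G : Type u} [Group G] [Finite G] {g h : G}
    (hh : h * g * h⁻¹ ∈ zpowers g) : h ∈ normalizer (zpowers g : Set G) := by
  rw [mem_normalizer_iff_map_conj_eq, MonoidHom.map_zpowers]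
  refine eq_of_le_of_card_ge (zpowers_le.2 hh) (le_of_eq ?_)
  rw [Nat.card_zpowers, Nat.card_zpowers]
  exact ((MulAut.conj h).orderOf_eq g).symm

theorem conj_zpow_mem {G : Type u} [Group G] {g h : G} (hh : h ∈ normalizer (zpowers g : Set G)) :
    h * g * h⁻¹ ∈ zpowers g :=
  (mem_normalizer_iff.1 hh g).1 (mem_zpowers g)

theorem exists_lift {G : Type u} [Group G] [Finite G] {A : Type v} [Group A] (f : G →* A)
    (hf : Function.Surjective f) (hk : IsPGroup 2 f.ker) {r : ℕ} (hr : r.Prime) (hr2 : r ≠ 2) {a : A}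
    (ha : orderOf a = r) :
    ∃ g : G, f g = a ∧ orderOf g = r ∧
      ∀ b : A, b * a * b⁻¹ ∈ zpowers a → ∃ h : G, f h = b ∧ h * g * h⁻¹ ∈ zpowers g := by
  haveI := Fact.mk hr
  haveI : Finite A := Finite.of_surjective f hf
  obtain ⟨m, hm⟩ := IsPGroup.iff_card.1 hk
  have ha1 : a ≠ 1 := fun h => hr.one_lt.ne' (by rw [← ha, h, orderOf_one])
  obtain ⟨g₀, hg₀⟩ := hf a
  set t := (2 ^ (r - 1)) ^ m with ht
  have hat : a ^ t = a := by
    have h1 : 2 ^ (r - 1) ≡ 1 [MOD r] := by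
      rw [← Nat.totient_prime hr]
      exact Nat.ModEq.pow_totient ((Nat.coprime_primes Nat.prime_two hr).2 (Ne.symm hr2))
    have h2 : t ≡ 1 [MOD orderOf a] := by rw [ha]; simpa using h1.pow m
    have h3 := pow_eq_pow_iff_modEq.2 h2
    rwa [pow_one] at h3
  have hg : f (g₀ ^ t) = a := by rw [map_pow, hg₀, hat]
  have hgr : (g₀ ^ t) ^ r = 1 := by
    have hmem : g₀ ^ r ∈ f.ker := by rw [MonoidHom.mem_ker, map_pow, hg₀, ← ha, pow_orderOf_eq_one]
    obtain ⟨c, hc⟩ : 2 ^ m ∣ t := pow_dvd_pow_of_dvd (dvd_pow_self 2 (by have := hr.two_le; omega)) m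
    rw [← pow_mul, mul_comm, pow_mul, hc, pow_mul, ← hm]
    have h2 : (⟨_, hmem⟩ : f.ker) ^ Nat.card f.ker = 1 := pow_card_eq_one'
    rw [show (g₀ ^ r) ^ Nat.card f.ker = 1 from congrArg Subtype.val h2, one_pow]
  set g := g₀ ^ t with hgdef
  have hgo : orderOf g = r := orderOf_eq_prime hgr fun h => ha1 (by rw [← hg, h, map_one])
  refine ⟨g, hg, hgo, fun b hb => ?_⟩
  obtain ⟨h₀, hh₀⟩ := hf b
  set H := (zpowers a).comap f with hH
  have hcH : Nat.card H = 2 ^ m * r := by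
    have h1 := H.card_mul_index
    rw [← f.ker.card_mul_index, index_ker, MonoidHom.range_eq_top.2 hf, card_top, hH,
      index_comap_of_surjective _ hf, hm] at h1
    have h2 := (zpowers a).card_mul_index
    rw [Nat.card_zpowers, ha] at h2
    rw [← h2, ← mul_assoc] at h1
    exact Nat.eq_of_mul_eq_mul_right (Nat.pos_of_ne_zero index_ne_zero_of_finite) h1
  have hg'H : h₀ * g * h₀⁻¹ ∈ H := by
    rw [hH, mem_comap, map_mul, map_mul, map_inv, hh₀, hg]
    exact hb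
  have hgH : g ∈ H := by rw [hH, mem_comap, hg]; exact mem_zpowers a
  obtain ⟨h, hh⟩ := exists_conj_zpowers hr hr2 hcH (g₁ := ⟨_, hg'H⟩) (g₂ := ⟨g, hgH⟩)
    (by rw [← Subgroup.orderOf_coe]; exact (orderOf_injective (MulAut.conj h₀).toMonoidHom
      (MulAut.conj h₀).injective g).trans hgo)
    (by rw [← Subgroup.orderOf_coe]; exact hgo)
  obtain ⟨i, hi⟩ := mem_zpowers_iff.1 (mem_comap.1 h.2)
  obtain ⟨j, hj⟩ := mem_zpowers_iff.1 hh
  have hj' : g ^ j = (h : G) * (h₀ * g * h₀⁻¹) * (h : G)⁻¹ := congrArg Subtype.val hj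
  refine ⟨g ^ (-i) * (h : G) * h₀, ?_, j, ?_⟩
  · rw [map_mul, map_mul, map_zpow, hg, ← hi, hh₀, _root_.zpow_neg, inv_mul_cancel, one_mul]
  · calc g ^ j = g ^ (-i) * g ^ j * (g ^ (-i))⁻¹ := by group
      _ = g ^ (-i) * ((h : G) * (h₀ * g * h₀⁻¹) * (h : G)⁻¹) * (g ^ (-i))⁻¹ := by rw [hj']
      _ = _ := by group

/-- The conjugate by an element with involutory image of a lift. -/
theorem commute_of_sq {G : Type u} [Group G] {A : Type v} [Group A] (f : G →* A) {g y : G}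
    (ho : orderOf (f g) = orderOf g) (hy : y ∈ normalizer (zpowers g : Set G)) (hx : f y * f y = 1) :
    Commute (y * y) g := by
  obtain ⟨i, hi⟩ := mem_zpowers_iff.1 (conj_zpow_mem (mul_mem hy hy))
  have h1 : f g ^ i = f g ^ (1 : ℤ) := by
    rw [← map_zpow, hi, zpow_one]
    rw [map_mul, map_mul, map_inv, map_mul, hx, one_mul, inv_one, mul_one]
  rw [zpow_eq_zpow_iff_modEq, ho, ← zpow_eq_zpow_iff_modEq, zpow_one, hi, mul_inv_eq_iff_eq_mul] at h1
  exact h1

theorem false_of_triple {G : Type u} [Group G] [Finite G] {A : Type v} [Group A] (f : G →* A)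
    (hf : Function.Surjective f) (hk : IsPGroup 2 f.ker) (hinv : ∀ z : G, z * z = 1 → f z = 1)
    {a b x : A} {r s : ℕ} (hr : r.Prime) (hr2 : r ≠ 2) (ha : orderOf a = r) (hs : s.Prime) (hs2 : s ≠ 2)
    (hb : orderOf b = s) (hx1 : x ≠ 1) (hx2 : x * x = 1) (hba : b * a * b⁻¹ ∈ zpowers a)
    (hxa : x * a * x⁻¹ ∈ zpowers a) (hxb : x * b * x⁻¹ ∈ zpowers b)
    (hfix : ∀ z ga gb : G, z * z = 1 → f ga = a → f gb = b → Commute ga z → Commute gb z → z = 1) : False := by
  classical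
  obtain ⟨g, hg, hgo, hgN⟩ := exists_lift f hf hk hr hr2 ha
  set N := normalizer (zpowers g : Set G) with hN
  let f₁ := (f.comp N.subtype).rangeRestrict
  have hf₁ : Function.Surjective f₁ := MonoidHom.rangeRestrict_surjective _
  have hk₁ : IsPGroup 2 f₁.ker := fun z => by
    obtain ⟨j, hj⟩ := hk ⟨((z : N) : G), congrArg Subtype.val (MonoidHom.mem_ker.1 z.2)⟩
    exact ⟨j, Subtype.ext (Subtype.ext (congrArg (fun w : f.ker => (w : G)) hj :))⟩
  obtain ⟨hb', hhb, hhbN⟩ := hgN b hba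
  obtain ⟨hx', hhx, hhxN⟩ := hgN x hxa
  have hbr : b ∈ (f.comp N.subtype).range := ⟨⟨hb', mem_normalizer_zpowers hhbN⟩, hhb⟩
  have hxr : x ∈ (f.comp N.subtype).range := ⟨⟨hx', mem_normalizer_zpowers hhxN⟩, hhx⟩
  obtain ⟨g₂, hg₂, hg₂o, hg₂N⟩ := exists_lift f₁ hf₁ hk₁ hs hs2 (a := ⟨b, hbr⟩)
    (by rw [← Subgroup.orderOf_coe]; exact hb)
  obtain ⟨y, hy, hyN⟩ := hg₂N ⟨x, hxr⟩ (by
    obtain ⟨i, hi⟩ := mem_zpowers_iff.1 hxb
    exact mem_zpowers_iff.2 ⟨i, Subtype.ext hi⟩)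
  have hfy : f y = x := congrArg Subtype.val hy
  have hfg₂ : f g₂ = b := congrArg Subtype.val hg₂
  have hc₁ : Commute ((y : G) * y) g :=
    commute_of_sq f (by rw [hg, ha, hgo]) y.2 (by rw [hfy, hx2])
  have hc₂ : Commute ((y : G) * y) g₂ := by
    have h := commute_of_sq (f.comp N.subtype) (g := g₂) (y := y) (by
      show orderOf (f g₂) = _
      rw [hfg₂, hb, hg₂o]) (mem_normalizer_zpowers hyN) (by
      show f y * f y = 1
      rw [hfy, hx2])
    exact congrArg Subtype.val h.eq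
  by_cases hz : (y : G) * y = 1
  · exact hx1 (by rw [← hfy, hinv _ hz])
  obtain ⟨j, hj⟩ := hk ⟨(y : G) * y, by rw [MonoidHom.mem_ker, map_mul, hfy, hx2]⟩
  have hj' : ((y : G) * y) ^ 2 ^ j = 1 := congrArg Subtype.val hj
  have hex : ∃ i, ((y : G) * y) ^ 2 ^ i = 1 := ⟨j, hj'⟩
  obtain ⟨i, hi⟩ : ∃ i, Nat.find hex = i + 1 := Nat.exists_eq_succ_of_ne_zero fun h0 => hz (by
    have := Nat.find_spec hex
    rwa [h0, pow_zero, pow_one] at this)
  refine Nat.find_min hex (show i < Nat.find hex by omega) (hfix _ g g₂ ?_ hg hfg₂ ?_ ?_)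
  · rw [← pow_two, ← pow_mul, ← pow_succ, ← hi]
    exact Nat.find_spec hex
  · exact (hc₁.pow_left _).symm
  · exact (hc₂.pow_left _).symm

end Cfsg.Agent.Pyramidal
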