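import Mathlib

/-!
Models of elementary abelian 2-groups and, in rank at least four, three automorphisms: two commuting of
odd prime orders without a common fixed point, and an involution normalising both.
-/

set_option autoImplicit false
set_option linter.style.haveILetI false
set_option linter.unusedSectionVars false

namespace Cfsg.Agent.Pyramidal

open Subgroup

universe u v

theorem exists_model {E : Type u} [Group E] [Finite E] (hsq : ∀ x : E, x * x = 1) (V : Type v)
    [AddCommGroup V] [Finite V] (hV : ∀ x : V, x + x = 0) (hc : Nat.card V = Nat.card E) :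
    Nonempty (Multiplicative V ≃* E) := by
  letI : CommGroup E :=
    { (inferInstance : Group E) with
      mul_comm := fun x y => by
        calc x * y = x * (x * y * (x * y)) * y := by rw [hsq, mul_one]
          _ = x * x * (y * x) * (y * y) := by group
          _ = y * x := by rw [hsq, hsq, one_mul, mul_one] }
  obtain ⟨m1⟩ : Nonempty (Module (ZMod 2) V) := ⟨AddCommGroup.zmodModule fun x => by rw [two_nsmul, hV]⟩
  obtain ⟨m2⟩ : Nonempty (Module (ZMod 2) (Additive E)) :=
    ⟨AddCommGroup.zmodModule fun x => by rw [two_nsmul]; exact congrArg Additive.ofMul (hsq x.toMul)⟩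
  letI := m1
  letI := m2
  haveI : Module.Finite (ZMod 2) V := Module.Finite.of_finite
  haveI : Module.Finite (ZMod 2) (Additive E) := Module.Finite.of_finite
  have hrk : Module.finrank (ZMod 2) V = Module.finrank (ZMod 2) (Additive E) := by
    have h1 := Module.natCard_eq_pow_finrank (K := ZMod 2) (V := V)
    have h2 := Module.natCard_eq_pow_finrank (K := ZMod 2) (V := Additive E)
    rw [Nat.card_zmod] at h1 h2
    refine Nat.pow_right_injective le_rfl ?_
    show 2 ^ _ = 2 ^ _
    rw [← h1, ← h2, hc]
    rfl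
  obtain l := (LinearEquiv.ofFinrankEq V (Additive E) hrk).toAddEquiv
  exact ⟨{ toFun := fun z => (l z.toAdd).toMul
           invFun := fun x => Multiplicative.ofAdd (l.symm (Additive.ofMul x))
           left_inv := fun z => by simp
           right_inv := fun x => by simp
           map_mul' := fun z w => by simp [toMul_add] }⟩

/-- The cycle of order three on the plane. -/
def planeT : MulAut (Multiplicative (ZMod 2 × ZMod 2)) :=
  AddEquiv.toMultiplicative
    { toFun := fun p => (p.2, p.1 + p.2)
      invFun := fun p => (p.2 + p.1, p.1)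
      left_inv := by decide
      right_inv := by decide
      map_add' := by decide }

/-- The exchange of the two coordinates. -/
def planeS : MulAut (Multiplicative (ZMod 2 × ZMod 2)) :=
  AddEquiv.toMultiplicative
    { toFun := fun p => (p.2, p.1)
      invFun := fun p => (p.2, p.1)
      left_inv := by decide
      right_inv := by decide
      map_add' := by decide }

/-- Multiplication by a unit. -/
def fieldMul (F : Type v) [Field F] : Fˣ →* MulAut (Multiplicative F) where
  toFun c := AddEquiv.toMultiplicative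
    { toFun := fun x => (c : F) * x
      invFun := fun x => ((c⁻¹ : Fˣ) : F) * x
      left_inv := fun x => by show ((c⁻¹ : Fˣ) : F) * ((c : F) * x) = x; rw [← mul_assoc, Units.inv_mul, one_mul]
      right_inv := fun x => by show (c : F) * (((c⁻¹ : Fˣ) : F) * x) = x; rw [← mul_assoc, Units.mul_inv, one_mul]
      map_add' := fun x y => mul_add _ _ _ }
  map_one' := MulEquiv.ext fun x => congrArg Multiplicative.ofAdd (one_mul x.toAdd)
  map_mul' c d := MulEquiv.ext fun x => congrArg Multiplicative.ofAdd (mul_assoc (c : F) (d : F) x.toAdd)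

/-- Automorphisms acting factor by factor. -/
def prodAut (P Q : Type*) [Group P] [Group Q] : MulAut P × MulAut Q →* MulAut (P × Q) where
  toFun f := f.1.prodCongr f.2
  map_one' := rfl
  map_mul' _ _ := rfl

theorem exists_triple {E : Type u} [Group E] [Finite E] {e : ℕ} (hsq : ∀ x : E, x * x = 1)
    (hc : Nat.card E = 2 ^ e) (he : 4 ≤ e) :
    ∃ (a b x : MulAut E) (r s : ℕ), r.Prime ∧ r ≠ 2 ∧ orderOf a = r ∧ s.Prime ∧ s ≠ 2 ∧ orderOf b = s ∧
      x ≠ 1 ∧ x * x = 1 ∧ b * a * b⁻¹ ∈ zpowers a ∧ x * a * x⁻¹ ∈ zpowers a ∧ x * b * x⁻¹ ∈ zpowers b ∧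
      ∀ z : E, a z = z → b z = z → z = 1 := by
  classical
  let F := GaloisField 2 (e - 2)
  have hF : Nat.card F = 2 ^ (e - 2) := GaloisField.card 2 (e - 2) (by omega)
  haveI : Finite F := Nat.finite_of_card_ne_zero (by rw [hF]; positivity)
  set s := (2 ^ (e - 2) - 1).minFac with hs_def
  have h4 : 4 ≤ 2 ^ (e - 2) :=
    le_trans (by norm_num) (Nat.pow_le_pow_right (show 0 < 2 by norm_num) (show 2 ≤ e - 2 by omega))
  have hs : s.Prime := Nat.minFac_prime (by omega)
  have hs2 : s ≠ 2 := fun h => by
    have h1 := Nat.minFac_dvd (2 ^ (e - 2) - 1)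
    rw [← hs_def, h] at h1
    have h2 : 2 ∣ 2 ^ (e - 2) := dvd_pow_self 2 (by omega)
    omega
  haveI := Fact.mk hs
  obtain ⟨c, hc'⟩ := exists_prime_orderOf_dvd_card' (G := Fˣ) s
    (by rw [Nat.card_units, hF]; exact Nat.minFac_dvd _)
  obtain ⟨ι₀⟩ := exists_model hsq ((ZMod 2 × ZMod 2) × F)
    (fun z => Prod.ext (Prod.ext (CharTwo.add_self_eq_zero _) (CharTwo.add_self_eq_zero _))
      (CharTwo.add_self_eq_zero _)) (by
    rw [Nat.card_prod, hF, hc, Nat.card_prod, Nat.card_zmod, show (2 : ℕ) * 2 = 2 ^ 2 from rfl, ← pow_add]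
    congr 1
    omega)
  set ι := (MulEquiv.prodMultiplicative (ZMod 2 × ZMod 2) F).symm.trans ι₀ with hι
  let Θ := (MulAut.congr ι).toMonoidHom.comp (prodAut (Multiplicative (ZMod 2 × ZMod 2)) (Multiplicative F))
  have hη : Function.Injective (prodAut (Multiplicative (ZMod 2 × ZMod 2)) (Multiplicative F)) := by
    intro f g h
    refine Prod.ext (MulEquiv.ext fun p => ?_) (MulEquiv.ext fun q => ?_)
    · exact congrArg Prod.fst (DFunLike.congr_fun h (p, 1))
    · exact congrArg Prod.snd (DFunLike.congr_fun h (1, q))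
  have hΘ : Function.Injective Θ := (MulAut.congr ι).injective.comp hη
  have hμ : Function.Injective (fieldMul F) := fun c d h =>
    Units.ext (by
      have h1 : (c : F) * 1 = (d : F) * 1 :=
        congrArg Multiplicative.toAdd (DFunLike.congr_fun h (Multiplicative.ofAdd (1 : F)))
      rwa [mul_one, mul_one] at h1)
  have hT3 : planeT ^ 3 = 1 := MulEquiv.ext (by decide)
  have hT1 : planeT ≠ 1 := fun h =>
    absurd (DFunLike.congr_fun h (Multiplicative.ofAdd (1, 0))) (by decide)
  have hS1 : planeS ≠ 1 := fun h =>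
    absurd (DFunLike.congr_fun h (Multiplicative.ofAdd (1, 0))) (by decide)
  have hS2 : planeS * planeS = 1 := MulEquiv.ext (by decide)
  have hST : planeS * planeT * planeS⁻¹ = planeT ^ 2 := MulEquiv.ext (by decide)
  refine ⟨Θ (planeT, 1), Θ (1, fieldMul F c), Θ (planeS, 1), 3, s, Nat.prime_three, by norm_num, ?_, hs, hs2,
    ?_, ?_, ?_, ?_, ?_, ?_, ?_⟩
  · rw [orderOf_injective Θ hΘ]
    exact orderOf_eq_prime (Prod.ext hT3 (one_pow 3)) fun h => hT1 (congrArg Prod.fst h)
  · rw [orderOf_injective Θ hΘ, Prod.orderOf_mk, orderOf_one, Nat.lcm_one_left, orderOf_injective _ hμ, hc']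
  · exact fun h => hS1 (congrArg Prod.fst (hΘ (h.trans Θ.map_one.symm)))
  · rw [← map_mul, Prod.mk_mul_mk, hS2, one_mul]
    exact map_one Θ
  · have : Θ (1, fieldMul F c) * Θ (planeT, 1) * (Θ (1, fieldMul F c))⁻¹ = Θ (planeT, 1) := by
      rw [← map_inv, ← map_mul, ← map_mul]
      congr 1
      simp
    rw [this]
    exact mem_zpowers _
  · have : Θ (planeS, 1) * Θ (planeT, 1) * (Θ (planeS, 1))⁻¹ = Θ (planeT, 1) ^ 2 := by
      rw [← map_inv, ← map_mul, ← map_mul, ← map_pow]
      congr 1
      simp [hST]
    rw [this]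
    exact npow_mem_zpowers _ 2
  · have : Θ (planeS, 1) * Θ (1, fieldMul F c) * (Θ (planeS, 1))⁻¹ = Θ (1, fieldMul F c) := by
      rw [← map_inv, ← map_mul, ← map_mul]
      congr 1
    rw [this]
    exact mem_zpowers _
  · intro z ha hb
    obtain ⟨⟨p, q⟩, rfl⟩ := ι.surjective z
    have ha' : planeT p = p := by
      have h : ι ((prodAut _ _ (planeT, 1)) (ι.symm (ι (p, q)))) = ι (p, q) := ha
      rw [MulEquiv.symm_apply_apply] at h
      exact congrArg Prod.fst (ι.injective h)
    have hb' : fieldMul F c q = q := by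
      have h : ι ((prodAut _ _ (1, fieldMul F c)) (ι.symm (ι (p, q)))) = ι (p, q) := hb
      rw [MulEquiv.symm_apply_apply] at h
      exact congrArg Prod.snd (ι.injective h)
    have hp : p = 1 := by
      revert ha'
      clear ha hb
      revert p
      decide
    have hq : q = 1 := by
      have h1 : (c : F) * q.toAdd = q.toAdd := congrArg Multiplicative.toAdd hb'
      by_contra hne
      have h2 : (c : F) = 1 := (mul_eq_right₀ fun h0 => hne (Multiplicative.toAdd.injective h0)).1 h1
      rw [Units.val_eq_one.1 h2, orderOf_one] at hc'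
      exact hs.one_lt.ne hc'
    rw [hp, hq, show ((1 : Multiplicative (ZMod 2 × ZMod 2)), (1 : Multiplicative F)) = 1 from rfl, map_one]

end Cfsg.Agent.Pyramidal
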