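import Mathlib
import Cfsg.Agent.Lib.Pyramidal.Frame
import Cfsg.Agent.Lib.Pyramidal.Lift
import Cfsg.Agent.Lib.Pyramidal.Triple
import Cfsg.Agent.Lib.AbelCent.Good

/-!
No finite group contains all its involutions in an elementary abelian normal subgroup of rank at least
three, induces every automorphism on it and has solvable centraliser of it.
-/

set_option autoImplicit false
set_option linter.style.haveILetI false
set_option linter.unusedSectionVars false

namespace Cfsg.Agent.Pyramidal

open Subgroup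

universe u

theorem false_of_frame_data {G : Type u} [Group G] [Finite G] {E : Subgroup G} [E.Normal]
    (hmem : ∀ x : G, x * x = 1 ↔ x ∈ E) (hcard : Nat.card E = 2 ^ 3)
    (hfull : ∀ φ : MulAut E, ∃ g : G, ∀ x : E, g * (x : G) * g⁻¹ = φ x)
    (h2 : IsPGroup 2 (centralizer (E : Set G))) : False := by
  classical
  have hsq : ∀ x : E, x * x = 1 := fun x => Subtype.ext ((hmem x).2 x.2)
  obtain ⟨ι⟩ := exists_model hsq W3 W3.add_self (by rw [hcard, Nat.card_eq_fintype_card]; decide)
  let θ : G →* MulAut (Multiplicative W3) := (MulAut.congr ι.symm).toMonoidHom.comp MulAut.conjNormal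
  let L : G → W3 →+ W3 := fun g =>
    { toFun := fun p => (θ g (Multiplicative.ofAdd p)).toAdd
      map_zero' := by rw [ofAdd_zero, map_one]; rfl
      map_add' := fun p q => by rw [ofAdd_add, map_mul]; rfl }
  let Φ : G →* Module.End (ZMod 2) W3 :=
    { toFun := fun g => (L g).toZModLinearMap 2
      map_one' := LinearMap.ext fun p => by
        show (θ 1 (Multiplicative.ofAdd p)).toAdd = p
        rw [map_one]; rfl
      map_mul' := fun g h => LinearMap.ext fun p => by
        show (θ (g * h) (Multiplicative.ofAdd p)).toAdd = (θ g (θ h (Multiplicative.ofAdd p))).toAdd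
        rw [map_mul]; rfl }
  let ρ : G →* GL32 :=
    ((LinearMap.toMatrixAlgEquiv' (R := ZMod 2) (n := Fin 3)).toMulEquiv.toMonoidHom.comp Φ).toHomUnits
  let ψ : W3 → G := fun p => (ι (Multiplicative.ofAdd p) : E)
  have ψ_inj : Function.Injective ψ := fun p q h =>
    Multiplicative.ofAdd.injective (ι.injective (Subtype.ext h))
  have ψ_surj : ∀ x ∈ E, ∃ p, ψ p = x := fun x hx =>
    ⟨(ι.symm ⟨x, hx⟩).toAdd, congrArg Subtype.val (ι.apply_symm_apply ⟨x, hx⟩)⟩
  have equiv : ∀ g p, g * ψ p * g⁻¹ = ψ ((ρ g : Matrix (Fin 3) (Fin 3) (ZMod 2)).mulVec p) := by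
    intro g p
    have h1 : (ρ g : Matrix (Fin 3) (Fin 3) (ZMod 2)).mulVec p = Φ g p := by
      show (LinearMap.toMatrixAlgEquiv' (Φ g)).mulVec p = _
      rw [← Matrix.toLinAlgEquiv'_apply, Matrix.toLinAlgEquiv'_toMatrixAlgEquiv']
    rw [h1]
    show g * ψ p * g⁻¹ = ((ι (ι.symm (MulAut.conjNormal g (ι (Multiplicative.ofAdd p)))) : E) : G)
    rw [MulEquiv.apply_symm_apply, MulAut.conjNormal_apply]
  have hker : ρ.ker = centralizer (E : Set G) := by
    refine le_antisymm (fun g hg => mem_centralizer_iff.2 fun x hx => ?_) fun g hg => ?_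
    · obtain ⟨p, rfl⟩ := ψ_surj x hx
      have h1 := equiv g p
      rw [MonoidHom.mem_ker.1 hg, Units.val_one, Matrix.one_mulVec, mul_inv_eq_iff_eq_mul] at h1
      exact h1.symm
    · refine MonoidHom.mem_ker.2 (Units.ext (Matrix.toLin'.injective (LinearMap.ext fun p => ψ_inj ?_)))
      rw [Matrix.toLin'_apply, Matrix.toLin'_apply, ← equiv, Units.val_one, Matrix.one_mulVec]
      rw [← mem_centralizer_iff.1 hg (ψ p) (ι (Multiplicative.ofAdd p)).2, mul_inv_cancel_right]
  let F : Frame E :=
    { ρ := ρ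
      ψ := ψ
      surj := fun A => by
        let σ : MulAut (Multiplicative W3) := AddEquiv.toMultiplicative
          { toFun := fun p => (A : Matrix (Fin 3) (Fin 3) (ZMod 2)).mulVec p
            invFun := fun p => ((A⁻¹ : GL32) : Matrix (Fin 3) (Fin 3) (ZMod 2)).mulVec p
            left_inv := fun p => by
              show ((A⁻¹ : GL32) : Matrix (Fin 3) (Fin 3) (ZMod 2)).mulVec (Matrix.mulVec _ p) = p
              rw [Matrix.mulVec_mulVec, Units.inv_mul, Matrix.one_mulVec]
            right_inv := fun p => by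
              show (A : Matrix (Fin 3) (Fin 3) (ZMod 2)).mulVec (Matrix.mulVec _ p) = p
              rw [Matrix.mulVec_mulVec, Units.mul_inv, Matrix.one_mulVec]
            map_add' := fun p q => Matrix.mulVec_add _ p q }
        obtain ⟨g, hg⟩ := hfull (MulAut.congr ι σ)
        refine ⟨g, Units.ext (Matrix.toLin'.injective (LinearMap.ext fun p => ψ_inj ?_))⟩
        rw [Matrix.toLin'_apply, Matrix.toLin'_apply, ← equiv, hg]
        show ((ι (σ (ι.symm (ι (Multiplicative.ofAdd p)))) : E) : G) = _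
        rw [MulEquiv.symm_apply_apply]
        rfl
      ker := hker
      two := hker ▸ h2
      mem := hmem
      ψ_mem := fun p => (ι (Multiplicative.ofAdd p)).2
      ψ_surj := ψ_surj
      ψ_inj := ψ_inj
      ψ_add := fun p q => by
        show ((ι (Multiplicative.ofAdd (p + q)) : E) : G) = _
        rw [ofAdd_add, map_mul]
        rfl
      equiv := equiv }
  exact F.false

theorem no_full_two {G : Type u} [Group G] [Finite G] {E : Subgroup G} [E.Normal] {e : ℕ}
    (hmem : ∀ x : G, x * x = 1 ↔ x ∈ E) (hcard : Nat.card E = 2 ^ e) (he : 3 ≤ e)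
    (hfull : ∀ φ : MulAut E, ∃ g : G, ∀ x : E, g * (x : G) * g⁻¹ = φ x)
    (h2 : IsPGroup 2 (centralizer (E : Set G))) : False := by
  rcases eq_or_lt_of_le he with rfl | he4
  · exact false_of_frame_data hmem hcard hfull h2
  have hsq : ∀ x : E, x * x = 1 := fun x => Subtype.ext ((hmem x).2 x.2)
  obtain ⟨a, b, x, r, s, hr, hr2, ha, hs, hs2, hb, hx1, hx2, hba, hxa, hxb, hfix⟩ :=
    exists_triple hsq hcard he4
  let f : G →* MulAut E := MulAut.conjNormal
  have hf : Function.Surjective f := fun φ => by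
    obtain ⟨g, hg⟩ := hfull φ
    exact ⟨g, MulEquiv.ext fun z => Subtype.ext (by rw [MulAut.conjNormal_apply]; exact hg z)⟩
  have hkC : f.ker ≤ centralizer (E : Set G) := fun g hg => mem_centralizer_iff.2 fun z hz => by
    have h1 := congrArg (fun φ : MulAut E => ((φ ⟨z, hz⟩ : E) : G)) (MonoidHom.mem_ker.1 hg)
    simp only [f, MulAut.conjNormal_apply, MulAut.one_apply, mul_inv_eq_iff_eq_mul] at h1
    exact h1.symm
  refine false_of_triple f hf (h2.to_le hkC) ?_ hr hr2 ha hs hs2 hb hx1 hx2 hba hxa hxb ?_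
  · intro z hz
    refine MulEquiv.ext fun w => Subtype.ext ?_
    rw [MulAut.conjNormal_apply, MulAut.one_apply]
    have hw : z * (w : G) = (w : G) * z := by
      have hzE := (hmem z).1 hz
      calc z * (w : G) = z * (z * w * (z * w)) * w := by rw [(hmem _).2 (mul_mem hzE w.2), mul_one]
        _ = z * z * (w * z) * (w * w) := by group
        _ = w * z := by rw [hz, (hmem _).2 w.2, one_mul, mul_one]
    rw [hw, mul_inv_cancel_right]
  · intro z ga gb hz hga hgb hca hcb
    have hzE := (hmem z).1 hz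
    have hfixed : ∀ (h : G) (φ : MulAut E), f h = φ → Commute h z → φ ⟨z, hzE⟩ = ⟨z, hzE⟩ := by
      rintro h φ rfl hc
      refine Subtype.ext ?_
      rw [MulAut.conjNormal_apply]
      show h * z * h⁻¹ = z
      rw [hc.eq, mul_inv_cancel_right]
    exact congrArg Subtype.val (hfix ⟨z, hzE⟩ (hfixed ga a hga hca) (hfixed gb b hgb hcb))

theorem no_full_aux (n : ℕ) : ∀ (G : Type u) [Group G] [Finite G] (E : Subgroup G) (e : ℕ),
    Nat.card G = n → E.Normal → (∀ x : G, x * x = 1 ↔ x ∈ E) → Nat.card E = 2 ^ e → 3 ≤ e →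
    (∀ φ : MulAut E, ∃ g : G, ∀ x : E, g * (x : G) * g⁻¹ = φ x) →
    Group.IsSolvable (centralizer (E : Set G)) → False := by
  induction n using Nat.strong_induction_on with
  | _ n ih =>
  intro G _ _ E e hn hE hmem hcard he hfull hsol
  classical
  haveI := hE
  set C := centralizer (E : Set G) with hC
  by_cases h2 : IsPGroup 2 C
  · exact no_full_two hmem hcard he hfull h2
  obtain ⟨r, hr, hrd, hr2⟩ : ∃ r : ℕ, r.Prime ∧ r ∣ Nat.card C ∧ r ≠ 2 := by
    by_contra! hno
    exact h2 (IsPGroup.iff_card.2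
      ⟨_, Nat.eq_prime_pow_of_unique_prime_dvd Nat.card_pos.ne' fun {d} hd hdd => hno d hd hdd⟩)
  haveI := Fact.mk hr
  obtain ⟨P⟩ := (inferInstance : Nonempty (Sylow r C))
  set P' := (P : Subgroup C).map C.subtype with hP'
  set N := normalizer (P' : Set G) with hNdef
  have hsup : N ⊔ C = ⊤ := by
    rw [hNdef, hP', Sylow.normalizer_sup_eq_top P]
  have hcomm : ∀ c ∈ C, ∀ x ∈ E, x * c * x⁻¹ = c := fun c hc x hx => by
    rw [mem_centralizer_iff.1 hc x hx, mul_inv_cancel_right]
  have hP'C : P' ≤ C := map_subtype_le _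
  have hEN : E ≤ N := fun x hx => mem_normalizer_iff.2 fun h => by
    refine ⟨fun hh => by rw [hcomm h (hP'C hh) x hx]; exact hh, fun hh => ?_⟩
    have h1 := hcomm _ (hP'C hh) x⁻¹ (inv_mem hx)
    rw [inv_inv] at h1
    have h2 : x⁻¹ * (x * h * x⁻¹) * x = h := by group
    rw [h1] at h2
    exact h2 ▸ hh
  by_cases hNtop : N = ⊤
  swap
  · -- a proper subgroup with the same data
    have hlt : Nat.card N < n := hn ▸ lt_of_le_of_ne (Nat.card_le_card_of_injective _ N.subtype_injective)
      fun h => hNtop (Subgroup.eq_top_of_card_eq N h)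
    let j := subgroupOfEquivOfLe hEN
    refine ih _ hlt N (E.subgroupOf N) e rfl (hE.subgroupOf N) (fun x => ?_)
      ((Nat.card_congr j.toEquiv).trans hcard) he (fun φ => ?_) ?_
    · rw [mem_subgroupOf, ← hmem, ← Subgroup.coe_mul, ← Subgroup.coe_one (H := N), Subtype.coe_inj]
    · obtain ⟨g, hg⟩ := hfull (MulAut.congr j φ)
      obtain ⟨m, hm, c, hc, rfl⟩ := mem_sup_of_normal_right.1 (show g ∈ N ⊔ C by rw [hsup]; trivial)
      refine ⟨⟨m, hm⟩, fun x => Subtype.ext ?_⟩
      have h1 := hg (j x)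
      have h2 : (MulAut.congr j φ) (j x) = j (φ x) := congrArg (fun z => j (φ z)) (j.symm_apply_apply x)
      rw [h2] at h1
      show m * ((x : N) : G) * m⁻¹ = ((φ x : N) : G)
      refine Eq.trans ?_ h1
      show m * ((x : N) : G) * m⁻¹ = m * c * ((x : N) : G) * (m * c)⁻¹
      have h3 : c * ((x : N) : G) * c⁻¹ = ((x : N) : G) := by
        rw [mul_inv_eq_iff_eq_mul]
        exact (mem_centralizer_iff.1 hc _ (mem_subgroupOf.1 x.2)).symm
      calc m * ((x : N) : G) * m⁻¹ = m * (c * ((x : N) : G) * c⁻¹) * m⁻¹ := by rw [h3]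
        _ = _ := by group
    · haveI := hsol
      let κ : centralizer ((E.subgroupOf N : Subgroup N) : Set N) →* C :=
        { toFun := fun z => ⟨((z : N) : G), mem_centralizer_iff.2 fun x hx =>
            congrArg Subtype.val (mem_centralizer_iff.1 z.2 ⟨x, hEN hx⟩ hx)⟩
          map_one' := rfl
          map_mul' := fun _ _ => rfl }
      exact Group.isSolvable_of_isSolvable_injective (f := κ)
        fun a b h => Subtype.ext (Subtype.ext (congrArg (fun z : C => (z : G)) h :))
  -- an odd normal subgroup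
  haveI hP'n : P'.Normal := normalizer_eq_top_iff.1 hNtop
  have hP'1 : P' ≠ ⊥ := fun h => P.ne_bot_of_dvd_card hrd
    ((Subgroup.map_eq_bot_iff_of_injective _ C.subtype_injective).1 h)
  have hodd : Odd (Nat.card P') := by
    rw [hP', card_map_of_injective C.subtype_injective]
    obtain ⟨i, hi⟩ := IsPGroup.iff_card.1 P.isPGroup'
    rw [hi]
    exact (hr.odd_of_ne_two hr2).pow
  have hdisj : ∀ z ∈ E, z ∈ P' → z = 1 := fun z hz hzP => by
    refine AbelCent.eq_one_of_odd_two_pow (j := 1) (AbelCent.odd_of_mem hodd hzP) ?_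
    rw [pow_one, pow_two]
    exact (hmem z).2 hz
  set π := QuotientGroup.mk' P' with hπ
  have hπ1 : ∀ z, π z = 1 ↔ z ∈ P' := fun z => QuotientGroup.eq_one_iff z
  have hπs : Function.Surjective π := QuotientGroup.mk'_surjective P'
  let πE : E ≃* E.map π := MulEquiv.ofBijective (π.subgroupMap E) ⟨fun x y h => by
      have h1 : π x = π y := congrArg Subtype.val h
      refine (inv_mul_eq_one.1 (Subtype.ext (hdisj _ (mul_mem (inv_mem x.2) y.2) ((hπ1 _).1 ?_)) :
        x⁻¹ * y = 1))
      show π ((x : G)⁻¹ * (y : G)) = 1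
      rw [map_mul, map_inv, h1, inv_mul_cancel], π.subgroupMap_surjective E⟩
  have hlt : Nat.card (G ⧸ P') < n := by
    rw [← hn, card_eq_card_quotient_mul_card_subgroup P']
    exact lt_mul_of_one_lt_right Nat.card_pos ((one_lt_card_iff_ne_bot P').2 hP'1)
  refine ih _ hlt (G ⧸ P') (E.map π) e rfl (hE.map π hπs) (fun x => ⟨fun hx => ?_, fun hx => ?_⟩)
    ((Nat.card_congr πE.toEquiv).symm.trans hcard) he (fun φ => ?_) ?_
  · by_cases hx1 : x = 1
    · exact hx1 ▸ (E.map π).one_mem
    obtain ⟨t, ht, rfl⟩ := AbelCent.exists_invol_lift π (by rwa [QuotientGroup.ker_mk']) hπs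
      (orderOf_eq_prime (by rw [pow_two, hx]) hx1)
    exact mem_map_of_mem π ((hmem t).1 (by rw [← pow_two, ← ht, pow_orderOf_eq_one]))
  · obtain ⟨z, hz, rfl⟩ := hx
    rw [← map_mul, (hmem z).2 hz, map_one]
  · obtain ⟨g, hg⟩ := hfull (MulAut.congr πE.symm φ)
    refine ⟨π g, fun y => ?_⟩
    obtain ⟨x, rfl⟩ := πE.surjective y
    have h2 : πE (MulAut.congr πE.symm φ x) = φ (πE x) := πE.apply_symm_apply _
    rw [← h2]
    show π g * π x * (π g)⁻¹ = π ((MulAut.congr πE.symm φ x : E) : G)
    rw [← hg, map_mul, map_mul, map_inv]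
  · haveI := hsol
    haveI : Group.IsSolvable (C.map π) :=
      Group.isSolvable_of_surjective (π.subgroupMap_surjective C)
    have hle : centralizer ((E.map π : Subgroup (G ⧸ P')) : Set (G ⧸ P')) ≤ C.map π := by
      intro y hy
      obtain ⟨g, rfl⟩ := hπs y
      refine mem_map_of_mem π (mem_centralizer_iff.2 fun x hx => ?_)
      have h1 := mem_centralizer_iff.1 hy (π x) (mem_map_of_mem π hx)
      have h2 : g * x * g⁻¹ * x⁻¹ = 1 := hdisj _ (mul_mem (hE.conj_mem x hx g) (inv_mem hx))
        ((hπ1 _).1 (by rw [map_mul, map_mul, map_mul, map_inv, map_inv, ← h1, mul_inv_cancel_right, mul_inv_cancel]))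
      rw [mul_inv_eq_one, mul_inv_eq_iff_eq_mul] at h2
      exact h2.symm
    exact Group.isSolvable_of_isSolvable_injective (Subgroup.inclusion_injective hle)

/-- No group of this kind exists. -/
theorem no_full {G : Type u} [Group G] [Finite G] {E : Subgroup G} {e : ℕ} (hE : E.Normal)
    (hmem : ∀ x : G, x * x = 1 ↔ x ∈ E) (hcard : Nat.card E = 2 ^ e) (he : 3 ≤ e)
    (hfull : ∀ φ : MulAut E, ∃ g : G, ∀ x : E, g * (x : G) * g⁻¹ = φ x)
    (hsol : Group.IsSolvable (centralizer (E : Set G))) : False :=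
  no_full_aux _ G E e rfl hE hmem hcard he hfull hsol

end Cfsg.Agent.Pyramidal
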