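import Mathlib
import Cfsg.Agent.Lib.Components.FStar
import Cfsg.Agent.Lib.DoublyPrim.Reduce
import Cfsg.Agent.Lib.Transfer.Basic
import Cfsg.Agent.Lib.Transfer.Hall
import Cfsg.Agent.Lib.Transfer.PGroup
import Cfsg.Agent.Lib.Walter4.Rank4
import Cfsg.Agent.S0205
import Cfsg.Agent.S3776

/-!
All involutions in an elementary normal subgroup `E`, permuted transitively: the centraliser of `E` is
solvable if `2 ^ e - 1` is a prime and the group has no normal subgroup of odd order.
-/

set_option autoImplicit false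
set_option linter.style.haveILetI false
set_option linter.unusedSectionVars false

namespace Cfsg.Agent.Pyramidal

open Subgroup
open scoped commutatorElement

universe u

variable {G : Type u} [Group G] [Finite G]

/-- `E` consists of `1` and the involutions, all conjugate, and their number is a prime. -/
structure Setup (E : Subgroup G) (e : ℕ) : Prop where
  normal : E.Normal
  mem : ∀ x : G, x * x = 1 ↔ x ∈ E
  card : Nat.card E = 2 ^ e
  trans : ∀ x ∈ E, x ≠ 1 → ∀ y ∈ E, y ≠ 1 → ∃ g : G, g * x * g⁻¹ = y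
  prime : (2 ^ e - 1).Prime

variable {E : Subgroup G} {e : ℕ}

theorem Setup.comm (h : Setup E e) {x y : G} (hx : x ∈ E) (hy : y ∈ E) : x * y = y * x := by
  have hx2 := (h.mem x).2 hx
  have hy2 := (h.mem y).2 hy
  calc x * y = x * (x * y * (x * y)) * y := by rw [(h.mem _).2 (mul_mem hx hy), mul_one]
    _ = x * x * (y * x) * (y * y) := by group
    _ = y * x := by rw [hx2, hy2, one_mul, mul_one]

theorem Setup.two_le (h : Setup E e) : 2 ≤ e := by
  by_contra hlt
  have hp := h.prime.two_le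
  interval_cases e <;> omega

theorem Setup.le_centralizer (h : Setup E e) : E ≤ centralizer (E : Set G) := fun _ hx =>
  mem_centralizer_iff.2 fun _ hy => h.comm hy hx

theorem Setup.card_ne_one (h : Setup E e) : Nat.card {x : E // x ≠ 1} = 2 ^ e - 1 := by
  classical
  haveI := Fintype.ofFinite E
  rw [Nat.card_eq_fintype_card, Fintype.card_subtype_compl, Fintype.card_subtype_eq,
    ← Nat.card_eq_fintype_card, h.card]

/-- A prime number of points moved transitively: some element moves them cyclically. -/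
theorem Setup.exists_cycle (h : Setup E e) (N : Subgroup G) (hN : ∀ n ∈ N, ∀ x ∈ E, n * x * n⁻¹ ∈ E)
    (ht : ∀ x ∈ E, x ≠ 1 → ∀ y ∈ E, y ≠ 1 → ∃ n ∈ N, n * x * n⁻¹ = y) :
    ∃ a ∈ N, ∀ x ∈ E, x ≠ 1 → ∀ y ∈ E, y ≠ 1 → ∃ i : ℕ, a ^ i * x * (a ^ i)⁻¹ = y := by
  classical
  let X := {x : E // x ≠ 1}
  haveI : Fintype X := Fintype.ofFinite X
  letI : MulAction N X :=
    { smul := fun g x => ⟨⟨(g : G) * x.1 * (g : G)⁻¹, hN _ g.2 _ x.1.2⟩, fun h =>
        x.2 (Subtype.ext (conj_eq_one_iff.1 (congrArg Subtype.val h :)))⟩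
      one_smul := fun x => Subtype.ext (Subtype.ext (by
        show ((1 : N) : G) * _ * _ = _
        simp))
      mul_smul := fun g g' x => Subtype.ext (Subtype.ext (by
        show ((g * g' : N) : G) * _ * _ = (g : G) * ((g' : G) * _ * _) * _
        rw [Subgroup.coe_mul]; group)) }
  set f := MulAction.toPermHom N X with hf
  haveI : MulAction.IsPretransitive f.range X := ⟨fun a b => by
    obtain ⟨g, hg, he⟩ := ht _ a.1.2 (fun h => a.2 (Subtype.ext h)) _ b.1.2 (fun h => b.2 (Subtype.ext h))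
    exact ⟨⟨f ⟨g, hg⟩, _, rfl⟩, Subtype.ext (Subtype.ext he)⟩⟩
  have hX : Nat.card X = 2 ^ e - 1 := h.card_ne_one
  have hcX : Fintype.card X = 2 ^ e - 1 := by rw [← Nat.card_eq_fintype_card, hX]
  haveI : Nonempty X := Fintype.card_pos_iff.1 (by rw [hcX]; exact h.prime.pos)
  obtain ⟨x₀⟩ := (inferInstance : Nonempty X)
  haveI := Fact.mk h.prime
  have hdvd : 2 ^ e - 1 ∣ Nat.card f.range := by
    rw [← hX, ← MulAction.index_stabilizer_of_transitive (G := f.range) x₀]
    exact Subgroup.index_dvd_card _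
  obtain ⟨⟨σ, n, hn⟩, hσ⟩ := exists_prime_orderOf_dvd_card' (G := f.range) (2 ^ e - 1) hdvd
  rw [← Subgroup.orderOf_coe] at hσ
  have hcyc : σ.IsCycle := Equiv.Perm.isCycle_of_prime_order'' (by rw [hcX]; exact h.prime) (by rw [hσ, hcX])
  have hsupp : σ.support = Finset.univ := Finset.eq_univ_of_card _ (by rw [← hcyc.orderOf, hσ, hcX])
  refine ⟨n, n.2, fun x hx hx1 y hy hy1 => ?_⟩
  set a : X := ⟨⟨x, hx⟩, fun h => hx1 (congrArg Subtype.val h)⟩
  set b : X := ⟨⟨y, hy⟩, fun h => hy1 (congrArg Subtype.val h)⟩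
  have hmv : ∀ c : X, σ c ≠ c := fun c => Equiv.Perm.mem_support.1 (hsupp ▸ Finset.mem_univ c)
  obtain ⟨i, hi⟩ := hcyc.exists_pow_eq (hmv a) (hmv b)
  refine ⟨i, ?_⟩
  rw [← hn, ← map_pow] at hi
  exact congrArg (fun c : X => ((c.1 : E) : G)) hi

section Perfect

variable {X : Type u} [Group X]

/-- An element moving every element of `Y` by central elements centralises the commutators of `Y`. -/
theorem commute_commutator {Z : Subgroup X} (hZ : Z ≤ center X) {Y : Subgroup X} {b : X}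
    (h : ∀ l ∈ Y, l⁻¹ * (b * l * b⁻¹) ∈ Z) {l : X} (hl : l ∈ ⁅Y, Y⁆) : b * l = l * b := by
  have hle : ⁅Y, Y⁆ ≤ centralizer ({b} : Set X) := by
    rw [Subgroup.commutator_le]
    intro l₁ h₁ l₂ h₂
    rw [mem_centralizer_singleton_iff]
    have hz₁ := mem_center_iff.1 (hZ (h l₁ h₁))
    have hz₂ := mem_center_iff.1 (hZ (h l₂ h₂))
    have e₁ : b * l₁ * b⁻¹ = l₁ * (l₁⁻¹ * (b * l₁ * b⁻¹)) := by group
    have e₂ : b * l₂ * b⁻¹ = l₂ * (l₂⁻¹ * (b * l₂ * b⁻¹)) := by group
    have e : b * ⁅l₁, l₂⁆ * b⁻¹ = ⁅l₁, l₂⁆ := by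
      revert hz₁ hz₂ e₁ e₂
      generalize l₁⁻¹ * (b * l₁ * b⁻¹) = z₁
      generalize l₂⁻¹ * (b * l₂ * b⁻¹) = z₂
      intro hz₁ hz₂ e₁ e₂
      show (MulAut.conj b) ⁅l₁, l₂⁆ = ⁅l₁, l₂⁆
      rw [map_commutatorElement, show (MulAut.conj b) l₁ = l₁ * z₁ from e₁,
        show (MulAut.conj b) l₂ = l₂ * z₂ from e₂,
        commutatorElement_def, commutatorElement_def, mul_inv_rev, mul_inv_rev]
      calc l₁ * z₁ * (l₂ * z₂) * (z₁⁻¹ * l₁⁻¹) * (z₂⁻¹ * l₂⁻¹)
          = l₁ * ((z₁ * l₂) * z₂ * z₁⁻¹) * l₁⁻¹ * z₂⁻¹ * l₂⁻¹ := by group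
        _ = l₁ * (l₂ * (z₁ * z₂) * z₁⁻¹) * l₁⁻¹ * z₂⁻¹ * l₂⁻¹ := by rw [← hz₁ l₂]; group
        _ = l₁ * (l₂ * (z₂ * z₁) * z₁⁻¹) * l₁⁻¹ * z₂⁻¹ * l₂⁻¹ := by rw [hz₂ z₁]
        _ = l₁ * l₂ * (z₂ * l₁⁻¹) * z₂⁻¹ * l₂⁻¹ := by group
        _ = l₁ * l₂ * (l₁⁻¹ * z₂) * z₂⁻¹ * l₂⁻¹ := by rw [hz₂ l₁⁻¹]
        _ = l₁ * l₂ * l₁⁻¹ * l₂⁻¹ := by group
    exact (mul_inv_eq_iff_eq_mul.1 e).symm
  exact (mem_centralizer_singleton_iff.1 (hle hl)).symm

end Perfect

theorem center_eq_bot_of {X : Type u} [Group X] [Finite X]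
    (hab : ∀ M : Subgroup X, M.Normal → IsMulCommutative M → M = ⊥) : Cfsg.fittingSubgroup X = ⊥ := by
  haveI := Components.fittingSubgroup_normal (G := X)
  set F := Cfsg.fittingSubgroup X
  haveI : Group.IsNilpotent F := Components.fittingSubgroup_nilpotent
  by_contra h
  haveI : Nontrivial F := (Subgroup.nontrivial_iff_ne_bot F).2 h
  haveI : ((center F).map F.subtype).Normal := ConjAct.normal_of_characteristic_of_normal
  have h1 := hab ((center F).map F.subtype) inferInstance ⟨⟨by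
    rintro ⟨_, x, hx, rfl⟩ ⟨_, y, -, rfl⟩
    exact Subtype.ext (congrArg (fun w : F => (w : X)) (mem_center_iff.1 hx y).symm)⟩⟩
  rw [Subgroup.map_eq_bot_iff_of_injective _ F.subtype_injective] at h1
  exact Group.IsNilpotent.center_ne_bot F h1

section Core

variable {X : Type u} [Group X] [Finite X]

theorem exists_component (hab : ∀ M : Subgroup X, M.Normal → IsMulCommutative M → M = ⊥) [Nontrivial X] :
    ∃ L : Subgroup X, Cfsg.IsComponent L := by
  by_contra hno
  have hl : Cfsg.layer X = ⊥ := le_bot_iff.1 (Components.layer_le_iff.2 fun L hL => absurd ⟨L, hL⟩ hno)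
  have h := Components.centralizer_generalizedFitting_le (G := X)
  rw [show Cfsg.generalizedFittingSubgroup X = ⊥ by
    show Cfsg.layer X ⊔ Cfsg.fittingSubgroup X = ⊥
    rw [hl, center_eq_bot_of hab, bot_sup_eq]] at h
  obtain ⟨x, hx⟩ := exists_ne (1 : X)
  exact hx (mem_bot.1 (h (mem_centralizer_iff.2 fun y hy => by rw [mem_bot.1 hy, one_mul, mul_one])))

theorem component_simple (hab : ∀ M : Subgroup X, M.Normal → IsMulCommutative M → M = ⊥)
    {L : Subgroup X} (hL : Cfsg.IsComponent L) :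
    IsSimpleGroup L ∧ ¬ IsMulCommutative L ∧ ∀ z ∈ L, (∀ l ∈ L, l * z = z * l) → z = 1 := by
  have hz : ∀ z ∈ L, (∀ l ∈ L, l * z = z * l) → z = 1 := by
    intro z hz hc
    haveI := Components.layer_normal (G := X)
    have hzc : z ∈ centralizer (Cfsg.layer X : Set X) := by
      have hle : Cfsg.layer X ≤ centralizer ({z} : Set X) := by
        refine Components.layer_le_iff.2 fun M hM m hm => mem_centralizer_singleton_iff.2 ?_
        by_cases hML : M = L
        · exact hc m (hML ▸ hm)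
        · exact commutatorElement_eq_one_iff_mul_comm.1 (mem_bot.1
            (Components.components_commute hM hL hML ▸ commutator_mem_commutator hm hz))
      exact mem_centralizer_iff.2 fun m hm => mem_centralizer_singleton_iff.1 (hle hm)
    have h1 := hab (Cfsg.layer X ⊓ centralizer (Cfsg.layer X : Set X)) inferInstance ⟨⟨fun a b =>
      Subtype.ext (mem_centralizer_iff.1 (mem_inf.1 b.2).2 _ (mem_inf.1 a.2).1)⟩⟩
    exact mem_bot.1 (h1 ▸ mem_inf.2 ⟨Components.component_le_layer hL hz, hzc⟩)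
  refine ⟨?_, Components.quasisimple_not_commutative hL.2, hz⟩
  have hc : center L = ⊥ := eq_bot_iff.2 fun z hzm => mem_bot.2 (Subtype.ext (hz z z.2 fun l hl =>
    congrArg Subtype.val (mem_center_iff.1 hzm ⟨l, hl⟩)))
  haveI := hL.2.2
  exact ((QuotientGroup.quotientMulEquivOfEq hc).trans QuotientGroup.quotientBot).symm.isSimpleGroup

end Core

/-- The centraliser of `E` is solvable. -/
theorem Setup.centralizer_isSolvable (h : Setup E e)
    (hO : ∀ N : Subgroup G, N.Normal → Odd (Nat.card N) → N = ⊥) :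
    Group.IsSolvable (centralizer (E : Set G)) := by
  classical
  haveI : Fact (Nat.Prime 2) := ⟨Nat.prime_two⟩
  haveI := h.normal
  set C := centralizer (E : Set G) with hC
  haveI : C.Normal := inferInstance
  by_contra hns
  obtain ⟨D, hDC, hD1, hDD, hinv⟩ := DoublyPrim.exists_residual C hns
  haveI : D.Normal := ⟨fun z hz g => hinv g (fun w hw => (inferInstance : C.Normal).conj_mem w hw g) z hz⟩
  have hperf : commutator D = ⊤ := by
    apply map_injective D.subtype_injective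
    rw [_root_.commutator_def, Subgroup.map_commutator, ← MonoidHom.range_eq_map, Subgroup.range_subtype]
    exact hDD
  have hnsD : ¬ Group.IsSolvable D := fun hs => by
    haveI := hs
    haveI : Nontrivial D := (Subgroup.nontrivial_iff_ne_bot D).2 hD1
    exact (Group.IsSolvable.commutator_lt_top_of_nontrivial D).ne hperf
  -- `E` lies in `D`
  have hED : E ≤ D := by
    have hev : 2 ∣ Nat.card D := by
      by_contra hc
      exact hnsD (S0205.result (Nat.odd_iff.2 (Nat.two_dvd_ne_zero.1 hc)))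
    obtain ⟨t, ht⟩ := exists_prime_orderOf_dvd_card' (G := D) 2 hev
    rw [← Subgroup.orderOf_coe] at ht
    have ht1 : (t : G) ≠ 1 := fun e => by rw [e, orderOf_one] at ht; omega
    have htE : (t : G) ∈ E := (h.mem _).1 (by rw [← pow_two, ← ht, pow_orderOf_eq_one])
    intro x hx
    by_cases hx1 : x = 1
    · exact hx1 ▸ D.one_mem
    obtain ⟨g, hg⟩ := h.trans _ htE ht1 x hx hx1
    exact hg ▸ (inferInstance : D.Normal).conj_mem _ t.2 g
  set E' := E.subgroupOf D with hE'
  haveI : E'.Normal := Normal.subgroupOf inferInstance _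
  have hEc : E' ≤ center D := fun z hz => mem_center_iff.2 fun d =>
    Subtype.ext (mem_centralizer_iff.1 (hDC d.2) _ (mem_subgroupOf.1 hz)).symm
  have hE'p : IsPGroup 2 E' := fun x => ⟨1, by
    apply Subtype.ext; apply Subtype.ext
    simpa [pow_two] using (h.mem _).2 (mem_subgroupOf.1 x.2)⟩
  obtain ⟨S⟩ := (inferInstance : Nonempty (Sylow 2 D))
  have hES : E' ≤ (S : Subgroup D) := hE'p.le_sylow_of_normal S
  have hE'1 : E' ≠ ⊥ := fun h0 => by
    have hc := Nat.card_congr (subgroupOfEquivOfLe hED).toEquiv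
    rw [← hE', h0, card_bot, h.card] at hc
    have := Nat.pow_le_pow_right (show 0 < 2 by norm_num) h.two_le
    omega
  have hinvE : ∀ x : (S : Subgroup D), x * x = 1 ↔ ((x : D) : G) ∈ E := fun x => by
    rw [← h.mem, Subtype.ext_iff, Subtype.ext_iff]
    rfl
  -- `S` is non-abelian
  have hna : ¬ IsMulCommutative (S : Subgroup D) := fun hc => by
    have h1 := TransferHall.inf_commutator_inf_center (S : Subgroup D) hc S.card_coprime_index
    rw [hperf, inf_top_eq] at h1
    exact hE'1 (le_bot_iff.1 (h1 ▸ le_inf hES hEc))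
  -- the involutions of `S` are moved cyclically
  obtain ⟨α, hα⟩ : ∃ α : MulAut (S : Subgroup D), ∀ x y : (S : Subgroup D), x ≠ 1 → x ^ 2 = 1 →
      y ≠ 1 → y ^ 2 = 1 → ∃ i : ℕ, (α ^ i) x = y := by
    set P := (S : Subgroup D).map D.subtype with hP
    set N := normalizer (P : Set G) with hN
    obtain ⟨a, ha, hacyc⟩ := h.exists_cycle N (fun n _ x hx => h.normal.conj_mem x hx n)
      fun x hx hx1 y hy hy1 => by
        obtain ⟨g, hg⟩ := h.trans x hx hx1 y hy hy1
        have hgm : g ∈ N ⊔ D := by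
          rw [hN, hP, Sylow.normalizer_sup_eq_top S]
          trivial
        obtain ⟨n, hn, d, hd, rfl⟩ := mem_sup_of_normal_right.1 hgm
        refine ⟨n, hn, ?_⟩
        have hdx : d * x * d⁻¹ = x := by
          rw [mul_inv_eq_iff_eq_mul, mem_centralizer_iff.1 (hDC hd) x hx]
        rw [← hg]
        calc n * x * n⁻¹ = n * (d * x * d⁻¹) * n⁻¹ := by rw [hdx]
          _ = n * d * x * (n * d)⁻¹ := by group
    have hmem : ∀ n ∈ N, ∀ z : (S : Subgroup D), ⟨n * ((z : D) : G) * n⁻¹,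
        (inferInstance : D.Normal).conj_mem _ z.1.2 n⟩ ∈ (S : Subgroup D) := fun n hn z => by
      have h1 := (mem_normalizer_iff.1 hn _).1 (mem_map_of_mem D.subtype z.2)
      obtain ⟨w, hw, hwe⟩ := h1
      exact (show (⟨n * ((z : D) : G) * n⁻¹, _⟩ : D) = w from Subtype.ext hwe.symm) ▸ hw
    let α : MulAut (S : Subgroup D) :=
      { toFun := fun z => ⟨_, hmem a ha z⟩
        invFun := fun z => ⟨_, hmem a⁻¹ (inv_mem ha) z⟩
        left_inv := fun z => Subtype.ext (Subtype.ext (by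
          show a⁻¹ * (a * ((z : D) : G) * a⁻¹) * a⁻¹⁻¹ = _
          group))
        right_inv := fun z => Subtype.ext (Subtype.ext (by
          show a * (a⁻¹ * ((z : D) : G) * a⁻¹⁻¹) * a⁻¹ = _
          group))
        map_mul' := fun z w => Subtype.ext (Subtype.ext (by
          show a * (((z : D) : G) * ((w : D) : G)) * a⁻¹ = a * _ * a⁻¹ * (a * _ * a⁻¹)
          group)) }
    refine ⟨α, fun x y hx hx2 hy hy2 => ?_⟩
    obtain ⟨i, hi⟩ := hacyc _ ((hinvE x).1 (by rw [← pow_two, hx2]))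
      (fun e => hx (Subtype.ext (Subtype.ext e))) _ ((hinvE y).1 (by rw [← pow_two, hy2]))
      (fun e => hy (Subtype.ext (Subtype.ext e)))
    refine ⟨i, Subtype.ext (Subtype.ext ?_)⟩
    rw [← hi]
    clear hi
    induction i with
    | zero => simp
    | succ i ih =>
      rw [pow_succ', MulAut.mul_apply]
      show a * ((((α ^ i) x : (S : Subgroup D)) : D) : G) * a⁻¹ = _
      rw [ih, pow_succ']
      group
  obtain ⟨hcom, hfr, hcen⟩ := S3776.result S.isPGroup' hna (by
    obtain ⟨x, hx, hx1⟩ : ∃ x ∈ E, x ≠ 1 := by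
      by_contra! hc
      exact hE'1 (eq_bot_iff.2 fun z hz => mem_bot.2 (Subtype.ext (hc _ (mem_subgroupOf.1 hz))))
    obtain ⟨y, hy⟩ : ∃ y : {y : E // y ≠ 1}, (y.1 : G) ≠ x := by
      by_contra! hc
      have : Nat.card {y : E // y ≠ 1} ≤ 1 := Finite.card_le_one_iff_subsingleton.2
        ⟨fun a b => Subtype.ext (Subtype.ext ((hc a).trans (hc b).symm))⟩
      rw [h.card_ne_one] at this
      have := h.prime.two_le
      omega
    refine ⟨⟨⟨x, hED hx⟩, hES (mem_subgroupOf.2 hx)⟩, ⟨⟨y.1, hED y.1.2⟩, hES (mem_subgroupOf.2 y.1.2)⟩,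
      fun e => hy (congrArg (fun z : (S : Subgroup D) => ((z : D) : G)) e).symm,
      fun e => hx1 (congrArg (fun z : (S : Subgroup D) => ((z : D) : G)) e), ?_,
      fun e => y.2 (Subtype.ext (congrArg (fun z : (S : Subgroup D) => ((z : D) : G)) e)), ?_⟩
    · rw [pow_two, hinvE]; exact hx
    · rw [pow_two, hinvE]; exact y.1.2)
    ⟨zpowers α, inferInstance, fun x y hx hx2 hy hy2 => by
      obtain ⟨i, hi⟩ := hα x y hx hx2 hy hy2
      exact ⟨α ^ i, npow_mem_zpowers α i, hi⟩⟩
  have hcenE : ∀ x : (S : Subgroup D), x ∈ center (S : Subgroup D) → (x : D) ∈ E' := fun x hx =>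
    mem_subgroupOf.2 ((hinvE x).1 (by rw [← pow_two]; exact (hcen x).1 hx))
  have hsq : ∀ x ∈ (S : Subgroup D), x * x ∈ E' := fun x hx => by
    have h1 := PGroupBasics.pow_mem_frattini S.isPGroup' ⟨x, hx⟩
    rw [hfr, pow_two] at h1
    exact hcenE _ h1
  have hcomE : ∀ x ∈ (S : Subgroup D), ∀ y ∈ (S : Subgroup D), ⁅x, y⁆ ∈ E' := fun x hx y hy => by
    have h1 : ⁅(⟨x, hx⟩ : (S : Subgroup D)), ⟨y, hy⟩⁆ ∈ commutator (S : Subgroup D) :=
      commutator_mem_commutator (mem_top _) (mem_top _)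
    rw [hcom, hfr] at h1
    exact hcenE _ h1
  -- the quotient
  set π := QuotientGroup.mk' E' with hπ
  have hπs : Function.Surjective π := QuotientGroup.mk'_surjective E'
  have hπ1 : ∀ {x : D}, π x = 1 ↔ x ∈ E' := fun {x} => QuotientGroup.eq_one_iff x
  let Sb : Sylow 2 (D ⧸ E') := S.mapSurjective hπs
  have hSb : IsMulCommutative (Sb : Subgroup (D ⧸ E')) := ⟨⟨by
    rintro ⟨_, hx⟩ ⟨_, hy⟩
    obtain ⟨x, hx', rfl⟩ := (Sylow.coe_mapSurjective hπs S).le hx
    obtain ⟨y, hy', rfl⟩ := (Sylow.coe_mapSurjective hπs S).le hy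
    refine Subtype.ext (commutatorElement_eq_one_iff_mul_comm.1 ?_)
    rw [← map_commutatorElement]
    exact hπ1.2 (hcomE x hx' y hy')⟩⟩
  have hodd0 : ∀ N : Subgroup D, N.Normal → Odd (Nat.card N) → N = ⊥ := fun N hN hodd => by
    haveI := PBasic.pPrimeCore_characteristic 2 D
    haveI : ((Cfsg.pPrimeCore 2 D).map D.subtype).Normal := ConjAct.normal_of_characteristic_of_normal
    have h1 := hO _ this (by
      rw [card_map_of_injective D.subtype_injective]
      exact Nat.coprime_two_right.1 (PBasic.pPrimeCore_coprime 2 D))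
    rw [Subgroup.map_eq_bot_iff_of_injective _ D.subtype_injective] at h1
    exact le_bot_iff.1 (h1 ▸ PBasic.le_pPrimeCore hN (Nat.coprime_two_right.2 hodd))
  -- no abelian normal subgroup of the quotient
  have hab : ∀ M : Subgroup (D ⧸ E'), M.Normal → IsMulCommutative M → M = ⊥ := by
    intro Mb hMb hMc
    haveI := hMb
    set M := Mb.comap π with hM
    haveI : M.Normal := hMb.comap π
    have hMcom : commutator M ≤ center M := by
      rw [_root_.commutator_def, Subgroup.commutator_le]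
      intro x _ y _
      refine mem_center_iff.2 fun z => Subtype.ext ?_
      have h1 : ⁅(x : D), (y : D)⁆ ∈ E' := hπ1.1 (by
        rw [map_commutatorElement, commutatorElement_eq_one_iff_mul_comm]
        exact congrArg Subtype.val (hMc.is_comm.comm (⟨π x, x.2⟩ : Mb) ⟨π y, y.2⟩))
      exact mem_center_iff.1 (hEc h1) z
    haveI : Group.IsNilpotent M := Components.isNilpotent_of_commutator_le_center hMcom
    have h2M : IsPGroup 2 M := by
      refine IsPGroup.iff_card.2 ⟨_, Nat.eq_prime_pow_of_unique_prime_dvd Nat.card_pos.ne' fun {r} hr hrd => ?_⟩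
      by_contra hr2
      haveI := Fact.mk hr
      obtain ⟨R⟩ := (inferInstance : Nonempty (Sylow r M))
      haveI : (R : Subgroup M).Normal := Group.normalizerCondition_of_isNilpotent |> R.normal_of_normalizerCondition
      haveI : (R : Subgroup M).Characteristic := R.characteristic_of_normal inferInstance
      haveI : ((R : Subgroup M).map M.subtype).Normal := ConjAct.normal_of_characteristic_of_normal
      have h1 := hodd0 _ this (by
        rw [card_map_of_injective M.subtype_injective]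
        obtain ⟨j, hj⟩ := IsPGroup.iff_card.1 R.isPGroup'
        rw [hj]
        exact (hr.odd_of_ne_two hr2).pow)
      rw [Subgroup.map_eq_bot_iff_of_injective _ M.subtype_injective] at h1
      exact R.ne_bot_of_dvd_card hrd h1
    have hMS : M ≤ (S : Subgroup D) := h2M.le_sylow_of_normal S
    set K := (centralizer (Mb : Set (D ⧸ E'))).comap π with hK
    haveI : K.Normal := Normal.comap inferInstance π
    have hSK : (S : Subgroup D) ≤ K := fun s hs => mem_centralizer_iff.2 fun m hm => by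
      obtain ⟨m, rfl⟩ := hπs m
      refine commutatorElement_eq_one_iff_mul_comm.1 ?_
      rw [← map_commutatorElement]
      exact hπ1.2 (hcomE m (hMS hm) s hs)
    have hKtop : K = ⊤ := by
      by_contra hne
      haveI : Nontrivial (D ⧸ K) := QuotientGroup.nontrivial_iff.2 hne
      have hs : Group.IsSolvable (D ⧸ K) := S0205.result (by
        rw [← index_eq_card]
        refine (Nat.odd_iff.2 (Nat.two_dvd_ne_zero.1 fun hd => S.not_dvd_index (hd.trans ?_)))
        exact index_dvd_of_le hSK)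
      have hq : commutator (D ⧸ K) = ⊤ := by
        rw [_root_.commutator_def, ← map_top_of_surjective (QuotientGroup.mk' K) (QuotientGroup.mk'_surjective K),
          ← Subgroup.map_commutator, ← _root_.commutator_def, hperf]
      exact (Group.IsSolvable.commutator_lt_top_of_nontrivial (D ⧸ K)).ne hq
    refine eq_bot_iff.2 fun mb hmb => ?_
    obtain ⟨m, rfl⟩ := hπs mb
    have hmM : m ∈ M := hmb
    refine mem_bot.2 (hπ1.2 (hcenE ⟨m, hMS hmM⟩ (mem_center_iff.2 fun s => Subtype.ext ?_)))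
    refine (commute_commutator hEc (Y := ⊤) (b := m) (fun l _ => hπ1.1 ?_) (l := (s : D)) ?_).symm
    · have h1 : l ∈ K := hKtop ▸ mem_top l
      rw [map_mul, map_mul, map_mul, map_inv, map_inv, mem_centralizer_iff.1 h1 (π m) hmb]
      group
    · rw [← _root_.commutator_def, hperf]; trivial
  haveI hnt : Nontrivial (D ⧸ E') := QuotientGroup.nontrivial_iff.2 fun h0 => hnsD (by
    haveI : IsMulCommutative D := ⟨⟨fun a b => (mem_center_iff.1 (hEc (h0 ▸ mem_top b)) a)⟩⟩
    exact Group.isSolvable_of_comm fun a b => mul_comm' a b)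
  -- every involution of a component has the same square
  have hcomp : ∀ L : Subgroup (D ⧸ E'), Cfsg.IsComponent L →
      ∃ a : D, π a ∈ L ∧ π a ≠ 1 ∧ π a * π a = 1 ∧
        ∀ b : D, π b ∈ L → π b ≠ 1 → π b * π b = 1 → b * b = a * a := by
    intro L hL
    obtain ⟨hsimp, hLna, -⟩ := component_simple hab hL
    haveI := hsimp
    have hLab : ∀ P : Sylow 2 L, IsMulCommutative (P : Subgroup L) := fun P => by
      obtain ⟨Q, hQ⟩ := ((P.isPGroup').map L.subtype).exists_le_sylow
      obtain ⟨g, rfl⟩ := MulAction.exists_smul_eq (D ⧸ E') Sb Q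
      haveI := hSb
      refine ⟨⟨fun x y => Subtype.ext (Subtype.ext ?_)⟩⟩
      obtain ⟨u, hu, hue⟩ := hQ (mem_map_of_mem L.subtype x.2)
      obtain ⟨v, hv, hve⟩ := hQ (mem_map_of_mem L.subtype y.2)
      show L.subtype x * L.subtype y = L.subtype y * L.subtype x
      rw [← hue, ← hve]
      have huv : u * v = v * u :=
        congrArg Subtype.val (mul_comm' (⟨u, hu⟩ : (Sb : Subgroup (D ⧸ E'))) ⟨v, hv⟩)
      show g * u * g⁻¹ * (g * v * g⁻¹) = g * v * g⁻¹ * (g * u * g⁻¹)
      calc g * u * g⁻¹ * (g * v * g⁻¹) = g * (u * v) * g⁻¹ := by group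
        _ = g * (v * u) * g⁻¹ := by rw [huv]
        _ = _ := by group
    obtain ⟨P⟩ := (inferInstance : Nonempty (Sylow 2 L))
    have hk := Walter4.kindStmt L hsimp (Walter4.good L hsimp hLna hLab) P
    haveI : Nontrivial (P : Subgroup L) :=
      Finite.one_lt_card_iff_nontrivial.1 (lt_of_lt_of_le (by norm_num) hk.four)
    obtain ⟨⟨x₀, hx₀⟩, hne⟩ := exists_ne (1 : (P : Subgroup L))
    have hx1 : x₀ ≠ 1 := fun e => hne (Subtype.ext e)
    obtain ⟨a, ha⟩ := hπs (x₀ : D ⧸ E')
    refine ⟨a, ha ▸ x₀.2, ha ▸ fun e => hx1 (Subtype.ext e),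
      ha ▸ congrArg Subtype.val (hk.sq x₀ hx₀), fun b hbL hb1 hb2 => ?_⟩
    set y : L := ⟨π b, hbL⟩ with hy
    have hy2 : IsPGroup 2 (zpowers y) := by
      refine (IsPGroup.iff_card (p := 2)).2 ⟨1, ?_⟩
      rw [Nat.card_zpowers, pow_one]
      exact orderOf_eq_prime (by rw [pow_two]; exact Subtype.ext hb2) fun e => hb1 (congrArg Subtype.val e)
    obtain ⟨Q, hQ⟩ := hy2.exists_le_sylow
    obtain ⟨g, rfl⟩ := MulAction.exists_smul_eq L P Q
    obtain ⟨w, hw, hwe⟩ := hQ (mem_zpowers y)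
    obtain ⟨n, -, hreg, -⟩ := hk.reg
    obtain ⟨i, hi⟩ := hreg x₀ hx₀ hx1 w hw fun e => hb1 (congrArg Subtype.val
      (show y = 1 by rw [← hwe, e]; exact map_one _))
    obtain ⟨d, hd⟩ := hπs ((g * n ^ i : L) : D ⧸ E')
    have hdb : π (d * a * d⁻¹) = π b := by
      rw [map_mul, map_mul, map_inv, hd, ha, show π b = ((y : L) : D ⧸ E') from rfl,
        show y = g * w * g⁻¹ from hwe.symm, ← hi]
      push_cast
      group
    obtain ⟨z, hz, rfl⟩ : ∃ z ∈ E', d * a * d⁻¹ * z = b :=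
      ⟨(d * a * d⁻¹)⁻¹ * b, hπ1.1 (by rw [map_mul, map_inv, hdb, inv_mul_cancel]), by group⟩
    have hzc := mem_center_iff.1 (hEc hz)
    have hz2 : z * z = 1 := Subtype.ext ((h.mem _).2 (mem_subgroupOf.1 hz))
    have haa : a * a ∈ E' := hπ1.1 (by rw [map_mul, ha]; exact congrArg Subtype.val (hk.sq x₀ hx₀))
    calc d * a * d⁻¹ * z * (d * a * d⁻¹ * z) = d * a * d⁻¹ * (z * (d * a * d⁻¹)) * z := by group
      _ = d * a * d⁻¹ * (d * a * d⁻¹ * z) * z := by rw [← hzc (d * a * d⁻¹)]
      _ = d * (a * a) * d⁻¹ * (z * z) := by group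
      _ = a * a := by rw [hz2, mul_one, mem_center_iff.1 (hEc haa) d, mul_inv_cancel_right]
  have hsq1 : ∀ a : D, π a ≠ 1 → a * a ≠ 1 := fun a ha h2 =>
    ha (hπ1.2 (mem_subgroupOf.2 ((h.mem _).1 (congrArg Subtype.val h2))))
  -- every involution occurs
  have hall : ∀ x : D, x ∈ E' → x ≠ 1 → ∃ (L : Subgroup (D ⧸ E')) (a : D),
      Cfsg.IsComponent L ∧ π a ∈ L ∧ π a ≠ 1 ∧ π a * π a = 1 ∧ a * a = x := by
    intro x hx hx1
    obtain ⟨L, hL⟩ := exists_component hab
    obtain ⟨a, haL, ha1, ha2, -⟩ := hcomp L hL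
    have haa : a * a ∈ E' := hπ1.1 (by rw [map_mul, ha2])
    obtain ⟨g, hg⟩ := h.trans _ (mem_subgroupOf.1 haa) (fun e => hsq1 a ha1 (Subtype.ext e)) (x : G)
      (mem_subgroupOf.1 hx) fun e => hx1 (Subtype.ext e)
    set φ : MulAut D := MulAut.conjNormal g with hφ
    have hφE : E'.map φ.toMonoidHom = E' := by
      refine eq_of_le_of_card_ge ?_ (le_of_eq (card_map_of_injective φ.injective).symm)
      rintro _ ⟨z, hz, rfl⟩
      refine mem_subgroupOf.2 ?_
      show ((MulAut.conjNormal g z : D) : G) ∈ E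
      rw [MulAut.conjNormal_apply]
      exact h.normal.conj_mem _ (mem_subgroupOf.1 hz) g
    set ψ := QuotientGroup.congr E' E' φ hφE with hψ
    have hψ' : ∀ y, ψ (π y) = π (φ y) := fun y => rfl
    refine ⟨L.map ψ.toMonoidHom, φ a, Components.component_map_equiv ψ hL, ⟨π a, haL, hψ' a⟩, ?_, ?_, ?_⟩
    · rw [← hψ']; exact fun e => ha1 (ψ.injective (e.trans (map_one ψ).symm))
    · rw [← hψ', ← map_mul, ha2, map_one]
    · rw [← map_mul]; exact Subtype.ext ((MulAut.conjNormal_apply g _).trans hg)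
  -- lifts of two components commute
  have hlift : ∀ (L M : Subgroup (D ⧸ E')), Cfsg.IsComponent L → Cfsg.IsComponent M → L ≠ M →
      ∀ a b : D, π a ∈ L → π b ∈ M → a * b = b * a := by
    intro L M hL hM hne a b haL hbM
    set Y := L.comap π
    have hz : ∀ l ∈ Y, l⁻¹ * (b * l * b⁻¹) ∈ E' := fun l hl => hπ1.1 (by
      rw [map_mul, map_mul, map_mul, map_inv, map_inv, show π b * π l = π l * π b from
        (commutatorElement_eq_one_iff_mul_comm.1 (mem_bot.1
          (Components.components_commute hL hM hne ▸ commutator_mem_commutator hl hbM))).symm]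
      group)
    have h1 : π a ∈ ⁅Y, Y⁆.map π := by
      rw [Subgroup.map_commutator, map_comap_eq_self_of_surjective hπs, Components.component_commutator_eq hL]
      exact haL
    obtain ⟨a', ha', hae⟩ := h1
    have hzc := mem_center_iff.1 (hEc (hπ1.1 (show π (a'⁻¹ * a) = 1 by rw [map_mul, map_inv, hae, inv_mul_cancel])))
    have hcm := commute_commutator hEc hz ha'
    calc a * b = a' * ((a'⁻¹ * a) * b) := by group
      _ = a' * (b * (a'⁻¹ * a)) := by rw [hzc b]
      _ = (a' * b) * (a'⁻¹ * a) := by group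
      _ = b * a' * (a'⁻¹ * a) := by rw [hcm]
      _ = b * a := by group
  -- three of them give an involution outside `E`
  obtain ⟨u, hu, hu1⟩ := (Subgroup.bot_or_exists_ne_one E').resolve_left hE'1
  obtain ⟨v, hv, hv1, hvu⟩ : ∃ v ∈ E', v ≠ 1 ∧ v ≠ u := by
    by_contra! hc
    have hsub : Nat.card E' ≤ 2 := by
      haveI := Fintype.ofFinite D
      rw [Nat.card_eq_fintype_card]
      refine le_trans (Fintype.card_le_of_injective (fun z : E' => decide ((z : D) = 1)) fun z w hzw => ?_)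
        (le_of_eq Fintype.card_bool)
      simp only [decide_eq_decide] at hzw
      by_cases hz1 : (z : D) = 1
      · exact Subtype.ext (hz1.trans (hzw.1 hz1).symm)
      · exact Subtype.ext ((hc z z.2 hz1).trans (hc w w.2 fun e => hz1 (hzw.2 e)).symm)
    rw [Nat.card_congr (subgroupOfEquivOfLe hED).toEquiv, h.card] at hsub
    have := Nat.pow_le_pow_right (show 0 < 2 by norm_num) h.two_le
    omega
  have hu2 : u * u = 1 := Subtype.ext ((h.mem _).2 (mem_subgroupOf.1 hu))
  have huv1 : u * v ≠ 1 := fun e => hvu (mul_left_cancel (e.trans hu2.symm))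
  obtain ⟨L₁, a, hL₁, haL, ha1, ha2, hau⟩ := hall u hu hu1
  obtain ⟨L₂, b, hL₂, hbL, hb1, hb2, hbv⟩ := hall v hv hv1
  obtain ⟨L₃, c, hL₃, hcL, hc1, hc2, hcw⟩ := hall (u * v) (mul_mem hu hv) huv1
  have hdist : ∀ (L M : Subgroup (D ⧸ E')) (a b : D), Cfsg.IsComponent L → π a ∈ L → π a ≠ 1 →
      π a * π a = 1 → π b ∈ M → π b ≠ 1 → π b * π b = 1 → a * a ≠ b * b → L ≠ M := by
    rintro L M a b hL ha ha1 ha2 hb hb1 hb2 hne rfl
    obtain ⟨c, -, -, -, hc⟩ := hcomp L hL
    exact hne ((hc a ha ha1 ha2).trans (hc b hb hb1 hb2).symm)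
  have h12 := hdist _ _ a b hL₁ haL ha1 ha2 hbL hb1 hb2 (by rw [hau, hbv]; exact hvu.symm)
  have h13 := hdist _ _ a c hL₁ haL ha1 ha2 hcL hc1 hc2 (by
    rw [hau, hcw]; exact fun e => hv1 (mul_eq_left.1 e.symm))
  have h23 := hdist _ _ b c hL₂ hbL hb1 hb2 hcL hc1 hc2 (by
    rw [hbv, hcw]; exact fun e => hu1 (mul_eq_right.1 e.symm))
  have cab := hlift _ _ hL₁ hL₂ h12 a b haL hbL
  have cac := hlift _ _ hL₁ hL₃ h13 a c haL hcL
  have cbc := hlift _ _ hL₂ hL₃ h23 b c hbL hcL
  have habc : π (a * b * c) = 1 := by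
    by_contra hne
    refine hsq1 _ hne ?_
    have hsquare : a * b * c * (a * b * c) = a * a * (b * b) * (c * c) := by
      calc a * b * c * (a * b * c) = a * b * (c * a) * (b * c) := by group
        _ = a * b * (a * c) * (b * c) := by rw [cac]
        _ = a * (b * a) * (c * b) * c := by group
        _ = a * (a * b) * (b * c) * c := by rw [cab, cbc]
        _ = a * a * (b * b) * (c * c) := by group
    rw [hsquare, hau, hbv, hcw]
    exact Subtype.ext ((h.mem _).2 (mem_subgroupOf.1 (mul_mem hu hv)))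
  refine ha1 ((component_simple hab hL₁).2.2 _ haL fun l hl => ?_)
  obtain ⟨l, rfl⟩ := hπs l
  have hlb := hlift _ _ hL₁ hL₂ h12 l b hl hbL
  have hlc := hlift _ _ hL₁ hL₃ h13 l c hl hcL
  have hpa : π a = (π (b * c))⁻¹ := by rw [eq_inv_iff_mul_eq_one, ← map_mul, ← mul_assoc, habc]
  rw [hpa, ← map_inv, ← map_mul, ← map_mul]
  refine congrArg π ((Commute.inv_right ?_).eq)
  exact Commute.mul_right hlb hlc

end Cfsg.Agent.Pyramidal
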