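import Mathlib
import Cfsg.Agent.Lib.Pyramidal.Residual
import Cfsg.Agent.Lib.Pyramidal.Linear
import Cfsg.Agent.S4037
import Cfsg.Agent.S4179

/-!
A non-solvable group without odd normal subgroups whose involutions form one class of odd prime power
size has only one involution.
-/

set_option autoImplicit false
set_option linter.style.haveILetI false
set_option linter.unusedSectionVars false

namespace Cfsg.Agent.Pyramidal

open Subgroup

universe u

variable {G : Type u} [Group G] [Finite G]

theorem sq_iff {x : G} : x * x = 1 ↔ x = 1 ∨ orderOf x = 2 := by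
  refine ⟨fun h => ?_, ?_⟩
  · by_cases h1 : x = 1
    · exact Or.inl h1
    · exact Or.inr (orderOf_eq_prime (by rw [pow_two, h]) h1)
  · rintro (rfl | h)
    · exact one_mul 1
    · rw [← pow_two, ← h, pow_orderOf_eq_one]

theorem exists_minimal_normal {N : Subgroup G} [N.Normal] (hN : N ≠ ⊥) :
    ∃ M : Subgroup G, M.Normal ∧ M ≤ N ∧ M ≠ ⊥ ∧
      ∀ K : Subgroup G, K.Normal → K ≤ M → K ≠ ⊥ → K = M := by
  classical
  let P : ℕ → Prop := fun n => ∃ M : Subgroup G, M.Normal ∧ M ≤ N ∧ M ≠ ⊥ ∧ Nat.card M = n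
  have hex : ∃ n, P n := ⟨_, N, inferInstance, le_rfl, hN, rfl⟩
  obtain ⟨M, hM, hMN, hM1, hMc⟩ := Nat.find_spec hex
  refine ⟨M, hM, hMN, hM1, fun K hK hKM hK1 => eq_of_le_of_card_ge hKM ?_⟩
  rw [hMc]
  exact Nat.find_min' hex ⟨K, hK, hKM.trans hMN, hK1, rfl⟩

theorem comm_of_minimal {M : Subgroup G} [M.Normal] (hsol : Group.IsSolvable M) (hM : M ≠ ⊥)
    (hmin : ∀ K : Subgroup G, K.Normal → K ≤ M → K ≠ ⊥ → K = M) :
    ∀ x ∈ M, ∀ y ∈ M, x * y = y * x := by
  haveI := hsol
  haveI : Nontrivial M := (Subgroup.nontrivial_iff_ne_bot M).2 hM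
  have hlt : ⁅M, M⁆ ≠ M := fun h => by
    refine (Group.IsSolvable.commutator_lt_top_of_nontrivial M).ne ?_
    apply map_injective M.subtype_injective
    rw [_root_.commutator_def, Subgroup.map_commutator, ← MonoidHom.range_eq_map, Subgroup.range_subtype]
    exact h
  have h0 : ⁅M, M⁆ = ⊥ := by
    by_contra h0
    exact hlt (hmin _ inferInstance (commutator_le_self M) h0)
  intro x hx y hy
  exact (mem_centralizer_iff.1 (commutator_eq_bot_iff_le_centralizer.1 h0 hx) y hy).symm

/-- Powers of two minus one are not proper powers. -/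
theorem pow_eq_one_of_mersenne {p j e : ℕ} (hp : Odd p) (h : p ^ j + 1 = 2 ^ e) (hj : j ≠ 0) (hp1 : 1 < p) :
    j = 1 := by
  obtain ⟨q, hq⟩ := hp
  obtain ⟨e', rfl⟩ : ∃ e', e = e' + 2 := ⟨e - 2, by
    rcases Nat.lt_or_ge e 2 with he | he
    · have : 3 ≤ p ^ j := le_trans (by omega) (Nat.le_self_pow hj p)
      interval_cases e <;> omega
    · omega⟩
  have hsq : p * p % 4 = 1 := by
    rw [hq, show (2 * q + 1) * (2 * q + 1) = 4 * (q * q + q) + 1 by ring]
    omega
  rcases Nat.even_or_odd j with ⟨i, rfl⟩ | ⟨i, rfl⟩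
  · have h1 : p ^ (i + i) % 4 = 1 := by
      rw [← two_mul, pow_mul, pow_two, Nat.pow_mod, hsq, one_pow]; rfl
    rw [pow_succ, pow_succ] at h
    omega
  -- the odd case
  obtain ⟨a, ha2, ha⟩ := (Nat.dvd_prime_pow Nat.prime_two).1 (show p + 1 ∣ 2 ^ (e' + 2) by
    rw [← h]; simpa using Odd.nat_add_dvd_pow_add_pow p 1 ⟨i, rfl⟩)
  obtain ⟨b, rfl⟩ : ∃ b, a = b + 1 := ⟨a - 1, by
    rcases Nat.eq_zero_or_pos a with rfl | ha'
    · rw [pow_zero] at ha; omega
    · omega⟩
  have hmod : p * p ≡ 1 [MOD 2 ^ (b + 2)] := by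
    have hpp : p * p = 2 ^ (b + 2) * q + 1 := by
      have hb : 2 ^ (b + 1) = 2 * q + 2 := by omega
      rw [pow_succ 2 (b + 1), hb, hq]; ring
    rw [hpp]
    exact (Nat.modEq_iff_dvd' (by omega)).2 ⟨q, by omega⟩ |>.symm
  have hmod2 : p ^ (2 * i + 1) ≡ p [MOD 2 ^ (b + 2)] := by
    have := ((hmod.pow i).mul_right p)
    rwa [one_pow, one_mul, ← pow_two, ← pow_mul, ← pow_succ] at this
  have hmod3 : 2 ^ (e' + 2) ≡ 2 ^ (b + 1) [MOD 2 ^ (b + 2)] := by
    rw [← h, ← ha]; exact hmod2.add_right 1
  by_cases hlt : b + 1 < e' + 2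
  · exfalso
    have h0 : 2 ^ (e' + 2) ≡ 0 [MOD 2 ^ (b + 2)] :=
      Nat.modEq_zero_iff_dvd.2 (pow_dvd_pow 2 (by omega))
    have h1 := Nat.le_of_dvd (by positivity) (Nat.modEq_zero_iff_dvd.1 (hmod3.symm.trans h0))
    have h2 : 2 ^ (b + 1) < 2 ^ (b + 2) := Nat.pow_lt_pow_right (by norm_num) (by omega)
    omega
  have he : b + 1 = e' + 2 := le_antisymm ha2 (by omega)
  have : p ^ (2 * i + 1) = p ^ 1 := by
    rw [pow_one]
    rw [← he, ← ha] at h
    omega
  exact Nat.pow_right_injective hp1 this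

theorem isSolvable_of_cyclic (H : Type u) [Group H] [IsCyclic H] : Group.IsSolvable H :=
  Group.isSolvable_of_comm fun a b => by
    obtain ⟨g, hg⟩ := IsCyclic.exists_generator (α := H)
    obtain ⟨m, rfl⟩ := hg a
    obtain ⟨n, rfl⟩ := hg b
    simp only [← zpow_add, add_comm]

theorem isSolvable_of_index_prime {H : Type u} [Group H] (C : Subgroup H) [C.Normal] [IsCyclic C]
    (h : (C.index).Prime) : Group.IsSolvable H := by
  haveI := Fact.mk h
  haveI : IsCyclic (H ⧸ C) := isCyclic_of_prime_card (p := C.index) (C.index_eq_card).symm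
  haveI := isSolvable_of_cyclic (H ⧸ C)
  haveI := isSolvable_of_cyclic C
  exact Group.isSolvable_of_ker_le_range C.subtype (QuotientGroup.mk' C)
    (by rw [QuotientGroup.ker_mk', Subgroup.range_subtype])

/-- Only one involution. -/
theorem count_of_core {p j : ℕ} (hp : p.Prime) (hp2 : p ≠ 2) (hns : ¬ Group.IsSolvable G)
    (hO : ∀ N : Subgroup G, N.Normal → Odd (Nat.card N) → N = ⊥)
    (hcard : Nat.card {x : G // orderOf x = 2} = p ^ j)
    (hconj : ∀ x y : G, orderOf x = 2 → orderOf y = 2 → ∃ g : G, g * x * g⁻¹ = y) : j = 0 := by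
  classical
  by_contra hj
  haveI : Fact (Nat.Prime 2) := ⟨Nat.prime_two⟩
  obtain ⟨⟨t, ht⟩⟩ := (Nat.card_pos_iff.1 (by rw [hcard]; exact pow_pos hp.pos j) :
    Nonempty {x : G // orderOf x = 2} ∧ _).1
  have horb : ∀ {g x : G}, orderOf x = 2 → orderOf (g * x * g⁻¹) = 2 := fun {g x} hx => by
    rw [← hx]; exact (MulAut.conj g).orderOf_eq x
  set L := normalClosure ({t} : Set G) with hL
  haveI hLsol : Group.IsSolvable L := S4037.result t hp j (by
    rw [← hcard, ← Nat.card_coe_set_eq]
    refine Nat.card_congr (Equiv.subtypeEquivRight fun x => ?_)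
    rw [ConjClasses.mem_carrier_iff_mk_eq, ConjClasses.mk_eq_mk_iff_isConj, isConj_iff]
    refine ⟨?_, fun hx => hconj x t hx ht⟩
    rintro ⟨c, hc⟩
    rw [← ht, ← hc]
    exact ((MulAut.conj c).orderOf_eq x).symm)
  have hL1 : L ≠ ⊥ := fun h => by
    have h1 : t ∈ L := subset_normalClosure (Set.mem_singleton t)
    rw [h, mem_bot] at h1
    rw [h1, orderOf_one] at ht
    omega
  obtain ⟨M, hM, hML, hM1, hmin⟩ := exists_minimal_normal hL1
  haveI := hM
  have hMc := comm_of_minimal (M := M)
    (Group.isSolvable_of_isSolvable_injective (Subgroup.inclusion_injective hML)) hM1 hmin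
  obtain ⟨⟨t₀, ht₀M⟩, ht₀⟩ : ∃ z : M, orderOf z = 2 := exists_prime_orderOf_dvd_card' 2 (by
    by_contra h
    exact hM1 (hO M hM (Nat.odd_iff.2 (Nat.two_dvd_ne_zero.1 h))))
  rw [Subgroup.orderOf_mk] at ht₀
  have hinvM : ∀ x : G, x * x = 1 → x ∈ M := fun x hx => by
    rcases sq_iff.1 hx with rfl | hx
    · exact M.one_mem
    obtain ⟨g, hg⟩ := hconj t₀ x ht₀ hx
    exact hg ▸ hM.conj_mem t₀ ht₀M g
  let E : Subgroup G :=
    { carrier := {x | x * x = 1}
      one_mem' := one_mul 1
      mul_mem' := fun {x y} hx hy => by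
        show x * y * (x * y) = 1
        calc x * y * (x * y) = x * (y * x) * y := by group
          _ = x * (x * y) * y := by rw [hMc y (hinvM y hy) x (hinvM x hx)]
          _ = x * x * (y * y) := by group
          _ = 1 := by rw [show x * x = 1 from hx, show y * y = 1 from hy, one_mul]
      inv_mem' := fun {x} hx => by
        show x⁻¹ * x⁻¹ = 1
        rw [← mul_inv_rev, show x * x = 1 from hx, inv_one] }
  have hmem : ∀ x : G, x * x = 1 ↔ x ∈ E := fun x => Iff.rfl
  haveI hEn : E.Normal := ⟨fun x hx g => (hmem _).1 (by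
    calc g * x * g⁻¹ * (g * x * g⁻¹) = g * (x * x) * g⁻¹ := by group
      _ = 1 := by rw [(hmem x).2 hx, mul_one, mul_inv_cancel])⟩
  obtain ⟨e, hE⟩ := IsPGroup.iff_card.1 (show IsPGroup 2 E from
    fun x => ⟨1, Subtype.ext (by rw [pow_one, Subgroup.coe_pow, pow_two]; exact (hmem _).2 x.2)⟩)
  have hcnt : p ^ j + 1 = 2 ^ e := by
    haveI : Fintype E := Fintype.ofFinite E
    rw [← hcard, ← hE,
      Nat.card_congr (β := {x : E // x ≠ 1})
        { toFun := fun x => ⟨⟨x.1, (hmem _).1 (sq_iff.2 (Or.inr x.2))⟩, fun h => by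
            have h1 : (x.1 : G) = 1 := congrArg Subtype.val h
            have h2 := x.2
            rw [h1, orderOf_one] at h2
            omega⟩
          invFun := fun x => ⟨x.1, (sq_iff.1 ((hmem _).2 x.1.2)).resolve_left fun h => x.2 (Subtype.ext h)⟩
          left_inv := fun x => rfl
          right_inv := fun x => rfl },
      Nat.card_eq_fintype_card, Nat.card_eq_fintype_card, Fintype.card_subtype_compl,
      Fintype.card_subtype_eq]
    have := Fintype.card_pos (α := E)
    omega
  obtain rfl : j = 1 := pow_eq_one_of_mersenne (hp.odd_of_ne_two hp2) hcnt hj hp.one_lt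
  rw [pow_one] at hcnt
  have hprime : (2 ^ e - 1).Prime := by rw [← hcnt, Nat.add_sub_cancel]; exact hp
  have hstp : Setup E e :=
    ⟨hEn, hmem, hE, fun x hx hx1 y hy hy1 => hconj x y ((sq_iff.1 ((hmem x).2 hx)).resolve_left hx1)
      ((sq_iff.1 ((hmem y).2 hy)).resolve_left hy1), hprime⟩
  have he2 := hstp.two_le
  have heprime : e.Prime := (Nat.prime_of_pow_sub_one_prime (by omega) hprime).2
  have hCsol := hstp.centralizer_isSolvable hO
  -- the linear group
  have hsq : ∀ x : E, x * x = 1 := fun x => Subtype.ext ((hmem _).2 x.2)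
  letI : CommGroup E :=
    { (inferInstance : Group E) with mul_comm := fun x y => Subtype.ext (hstp.comm x.2 y.2) }
  obtain ⟨md⟩ : Nonempty (Module (ZMod 2) (Additive E)) :=
    ⟨AddCommGroup.zmodModule fun x => by rw [two_nsmul]; exact congrArg Additive.ofMul (hsq x.toMul)⟩
  letI := md
  haveI : Module.Finite (ZMod 2) (Additive E) := Module.Finite.of_finite
  have hrk : Module.finrank (ZMod 2) (Additive E) = e := by
    have h1 := Module.natCard_eq_pow_finrank (K := ZMod 2) (V := Additive E)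
    rw [Nat.card_zmod, show Nat.card (Additive E) = Nat.card E from rfl, hE] at h1
    exact (Nat.pow_right_injective le_rfl h1).symm
  let θ : G →* (Additive E ≃ₗ[ZMod 2] Additive E) :=
    { toFun := fun g =>
        { AddMonoidHom.toZModLinearMap 2 (MonoidHom.toAdditive (MulAut.conjNormal g : MulAut E).toMonoidHom) with
          invFun := fun x => Additive.ofMul ((MulAut.conjNormal g : MulAut E).symm x.toMul)
          left_inv := fun x => congrArg Additive.ofMul ((MulAut.conjNormal g : MulAut E).symm_apply_apply x.toMul)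
          right_inv := fun x => congrArg Additive.ofMul ((MulAut.conjNormal g : MulAut E).apply_symm_apply x.toMul) }
      map_one' := LinearEquiv.ext fun x => by
        show Additive.ofMul ((MulAut.conjNormal (1 : G) : MulAut E) x.toMul) = x
        rw [map_one]; rfl
      map_mul' := fun g h => LinearEquiv.ext fun x => by
        show Additive.ofMul ((MulAut.conjNormal (g * h) : MulAut E) x.toMul) =
          Additive.ofMul ((MulAut.conjNormal g : MulAut E) ((MulAut.conjNormal h : MulAut E) x.toMul))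
        rw [map_mul]; rfl }
  have hθ : ∀ g (x : E), ((((θ g (Additive.ofMul x)).toMul : E)) : G) = g * (x : G) * g⁻¹ :=
    fun g x => MulAut.conjNormal_apply g x
  have hker : θ.ker ≤ centralizer (E : Set G) := fun g hg => mem_centralizer_iff.2 fun x hx => by
    have h1 := hθ g ⟨x, hx⟩
    rw [MonoidHom.mem_ker.1 hg] at h1
    exact ((mul_inv_eq_iff_eq_mul).1 h1.symm).symm
  haveI hkersol : Group.IsSolvable θ.ker :=
    Group.isSolvable_of_isSolvable_injective (Subgroup.inclusion_injective hker)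
  have hnsH : ¬ Group.IsSolvable θ.range := fun hs => by
    haveI := hs
    exact hns (Group.isSolvable_of_ker_le_range θ.ker.subtype θ.rangeRestrict
      (by rw [MonoidHom.ker_rangeRestrict, Subgroup.range_subtype]))
  rcases (S4179.result e hrk hprime θ.range).1 (fun v w hv hw => by
    obtain ⟨g, hg⟩ := hconj ((v.toMul : E) : G) ((w.toMul : E) : G)
      ((sq_iff.1 ((hmem _).2 v.toMul.2)).resolve_left fun h => hv (congrArg Additive.ofMul (Subtype.ext h : v.toMul = 1)))
      ((sq_iff.1 ((hmem _).2 w.toMul.2)).resolve_left fun h => hw (congrArg Additive.ofMul (Subtype.ext h : w.toMul = 1)))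
    exact ⟨θ g, ⟨g, rfl⟩, congrArg Additive.ofMul (Subtype.ext ((hθ g _).trans hg) :)⟩) with
    ⟨hcyc, -⟩ | ⟨hc, C, hCle, hCn, hCcyc, hCcard⟩ | htop
  · haveI := hcyc
    exact hnsH (isSolvable_of_cyclic _)
  · haveI := hCn
    haveI : IsCyclic (C.subgroupOf θ.range) :=
      isCyclic_of_surjective (subgroupOfEquivOfLe hCle).symm (subgroupOfEquivOfLe hCle).symm.surjective
    refine hnsH (isSolvable_of_index_prime (C.subgroupOf θ.range) ?_)
    have h1 := (C.subgroupOf θ.range).card_mul_index
    rw [Nat.card_congr (subgroupOfEquivOfLe hCle).toEquiv, hCcard, hc, mul_comm e] at h1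
    rwa [Nat.eq_of_mul_eq_mul_left hprime.pos h1]
  rcases eq_or_lt_of_le he2 with rfl | he3
  · -- the plane
    refine hnsH ?_
    have h6 : Nat.card θ.range ∣ 6 := by
      let X := {v : Additive E // v ≠ 0}
      let φ : θ.range →* Equiv.Perm X :=
        { toFun := fun f => (f : Additive E ≃ₗ[ZMod 2] Additive E).toEquiv.subtypeEquiv
            fun v => ((f : Additive E ≃ₗ[ZMod 2] Additive E).map_ne_zero_iff).symm
          map_one' := rfl
          map_mul' := fun _ _ => rfl }
      have hφ : Function.Injective φ := fun f g h => Subtype.ext (LinearEquiv.ext fun v => by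
        by_cases hv : v = 0
        · rw [hv, map_zero, map_zero]
        · exact congrArg Subtype.val (Equiv.ext_iff.1 h ⟨v, hv⟩))
      refine (Subgroup.card_dvd_of_injective φ hφ).trans ?_
      haveI : Fintype (Additive E) := Fintype.ofFinite _
      have hX : Nat.card X = 3 := by
        rw [Nat.card_eq_fintype_card, Fintype.card_subtype_compl, Fintype.card_subtype_eq,
          ← Nat.card_eq_fintype_card, show Nat.card (Additive E) = Nat.card E from rfl, hE]
        norm_num
      rw [Nat.card_perm, hX]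
      decide
    haveI : Finite θ.range := Finite.of_surjective _ θ.rangeRestrict_surjective
    haveI := IsZGroup.of_squarefree
      (Squarefree.squarefree_of_dvd h6 (by decide +kernel : Squarefree (6 : ℕ)))
    infer_instance
  refine no_full hEn hmem hE he3 (fun φ => ?_) hCsol
  let l : Additive E ≃ₗ[ZMod 2] Additive E :=
    { AddMonoidHom.toZModLinearMap 2 (MonoidHom.toAdditive φ.toMonoidHom) with
      invFun := fun x => Additive.ofMul (φ.symm x.toMul)
      left_inv := fun x => congrArg Additive.ofMul (φ.symm_apply_apply x.toMul)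
      right_inv := fun x => congrArg Additive.ofMul (φ.apply_symm_apply x.toMul) }
  obtain ⟨g, hg⟩ : l ∈ θ.range := htop ▸ mem_top l
  refine ⟨g, fun x => ?_⟩
  rw [← hθ, hg]
  rfl

end Cfsg.Agent.Pyramidal
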