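import Mathlib
import Cfsg.Agent.Lib.Pyramidal.Core
import Cfsg.Agent.S0144

/-!
A non-solvable group whose involutions form one class of size a power of an odd prime: the exponent is
even and the number is not nine.
-/

set_option autoImplicit false
set_option linter.style.haveILetI false
set_option linter.unusedSectionVars false

namespace Cfsg.Agent.Pyramidal

open Subgroup

universe u

theorem exists_involution_of_not_solvable {G : Type u} [Group G] [Finite G] {K : Subgroup G}
    (hK : ¬ Group.IsSolvable K) : ∃ z ∈ K, orderOf z = 2 := by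
  haveI : Fact (Nat.Prime 2) := ⟨Nat.prime_two⟩
  obtain ⟨z, hz⟩ := exists_prime_orderOf_dvd_card' (G := K) 2 (by
    by_contra h
    exact hK (S0205.result (Nat.odd_iff.2 (Nat.two_dvd_ne_zero.1 h))))
  exact ⟨z, z.2, by rwa [Subgroup.orderOf_coe]⟩

theorem count_aux (n : ℕ) : ∀ (G : Type u) [Group G] [Finite G] (p j : ℕ), Nat.card G = n → p.Prime → p ≠ 2 →
    ¬ Group.IsSolvable G → Nat.card {x : G // orderOf x = 2} = p ^ j →
    (∀ x y : G, orderOf x = 2 → orderOf y = 2 → ∃ g : G, g * x * g⁻¹ = y) → Even j ∧ p ^ j ≠ 9 := by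
  induction n using Nat.strong_induction_on with
  | _ n ih =>
  intro G _ _ p j hn hp hp2 hns hcard hconj
  classical
  by_cases hO : ∀ N : Subgroup G, N.Normal → Odd (Nat.card N) → N = ⊥
  · rw [count_of_core hp hp2 hns hO hcard hconj]
    exact ⟨Even.zero, by norm_num⟩
  push Not at hO
  obtain ⟨N, hN, hNodd, hN1⟩ := hO
  haveI := hN
  obtain ⟨M, hM, hMN, hM1, hmin⟩ := exists_minimal_normal hN1
  haveI := hM
  have hModd : Odd (Nat.card M) := hNodd.of_dvd_nat (card_dvd_of_le hMN)
  haveI hMsol : Group.IsSolvable M := S0205.result hModd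
  have hMc := comm_of_minimal (M := M) hMsol hM1 hmin
  set r := (Nat.card M).minFac with hrdef
  have hr : r.Prime := Nat.minFac_prime fun h => hM1 (card_eq_one.1 h)
  haveI := Fact.mk hr
  have hr2 : r ≠ 2 := fun h => by
    have h1 := Nat.minFac_dvd (Nat.card M)
    rw [← hrdef, h] at h1
    exact Nat.not_even_iff_odd.2 hModd (even_iff_two_dvd.2 h1)
  -- exponent
  let K : Subgroup G :=
    { carrier := {x | x ∈ M ∧ x ^ r = 1}
      one_mem' := ⟨M.one_mem, one_pow r⟩
      mul_mem' := fun {x y} hx hy => ⟨M.mul_mem hx.1 hy.1, by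
        rw [Commute.mul_pow (hMc x hx.1 y hy.1), hx.2, hy.2, one_mul]⟩
      inv_mem' := fun {x} hx => ⟨M.inv_mem hx.1, by rw [inv_pow, hx.2, inv_one]⟩ }
  have hKn : K.Normal := ⟨fun x hx g => ⟨hM.conj_mem x hx.1 g, by
    rw [conj_pow, hx.2, mul_one, mul_inv_cancel]⟩⟩
  have hKM : K = M := hmin K hKn (fun x hx => hx.1) fun h => by
    obtain ⟨z, hz⟩ := exists_prime_orderOf_dvd_card' (G := M) r (Nat.minFac_dvd _)
    have hzK : (z : G) ∈ K := ⟨z.2, by rw [← Subgroup.coe_pow, ← hz, pow_orderOf_eq_one, Subgroup.coe_one]⟩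
    rw [h, mem_bot] at hzK
    rw [show z = 1 from Subtype.ext hzK, orderOf_one] at hz
    exact hr.one_lt.ne hz
  have hexp : ∀ x ∈ M, x ^ r = 1 := fun x hx => ((hKM ▸ hx : x ∈ K)).2
  have hMinv : ∀ x ∈ M, orderOf x ≠ 2 := fun x hx h => by
    have h1 := AbelCent.odd_of_mem hModd hx
    rw [h] at h1
    exact absurd h1 (by decide)
  -- the involutions
  obtain ⟨⟨t, ht⟩⟩ := (Nat.card_pos_iff.1 (by rw [hcard]; exact pow_pos hp.pos j) :
    Nonempty {x : G // orderOf x = 2} ∧ _).1
  have hself : ∀ {s : G}, orderOf s = 2 → s * s = 1 := fun h => sq_iff.2 (Or.inr h)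
  let T : Subgroup G :=
    { carrier := {m | m ∈ M ∧ t * m * t⁻¹ = m⁻¹}
      one_mem' := ⟨M.one_mem, by simp⟩
      mul_mem' := fun {x y} hx hy => ⟨M.mul_mem hx.1 hy.1, by
        calc t * (x * y) * t⁻¹ = (t * x * t⁻¹) * (t * y * t⁻¹) := by group
          _ = x⁻¹ * y⁻¹ := by rw [hx.2, hy.2]
          _ = (y * x)⁻¹ := by group
          _ = (x * y)⁻¹ := by rw [hMc x hx.1 y hy.1]⟩
      inv_mem' := fun {x} hx => ⟨M.inv_mem hx.1, by
        calc t * x⁻¹ * t⁻¹ = (t * x * t⁻¹)⁻¹ := by group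
          _ = x⁻¹⁻¹ := by rw [hx.2]⟩ }
  obtain ⟨d, hd⟩ : ∃ d, Nat.card T = r ^ d := by
    obtain ⟨d, hd⟩ := IsPGroup.iff_card.1 (show IsPGroup r T from
      fun x => ⟨1, Subtype.ext (by rw [pow_one, Subgroup.coe_pow]; exact hexp _ x.2.1)⟩)
    exact ⟨d, hd⟩
  -- the quotient
  set π := QuotientGroup.mk' M with hπ
  have hπs : Function.Surjective π := QuotientGroup.mk'_surjective M
  have hπ1 : ∀ z, π z = 1 ↔ z ∈ M := fun z => QuotientGroup.eq_one_iff z
  have hπinv : ∀ {s : G}, orderOf s = 2 → orderOf (π s) = 2 := fun {s} hs =>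
    orderOf_eq_prime (by rw [← map_pow, pow_two, hself hs, map_one])
      fun h => hMinv s ((hπ1 s).1 h) hs
  let φ : {x : G // orderOf x = 2} → {y : G ⧸ M // orderOf y = 2} := fun x => ⟨π x.1, hπinv x.2⟩
  have hlift : ∀ y : G ⧸ M, orderOf y = 2 → ∃ s : G, orderOf s = 2 ∧ π s = y := fun y hy =>
    AbelCent.exists_invol_lift π (by rwa [QuotientGroup.ker_mk']) hπs hy
  have hfib : ∀ y, Nat.card {x // φ x = y} = r ^ d := by
    rintro ⟨y, hy⟩
    obtain ⟨s, hs, rfl⟩ := hlift y hy
    obtain ⟨g, hg⟩ := hconj t s ht hs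
    rw [← hd]
    have hA : ∀ m ∈ T, orderOf (g * (t * m) * g⁻¹) = 2 := by
      intro m hm
      have hm' : t * m * (t * m) = 1 := by
        have h1 := hm.2
        rw [inv_eq_of_mul_eq_one_left (hself ht)] at h1
        calc t * m * (t * m) = t * m * t * m := by group
          _ = 1 := by rw [h1, inv_mul_cancel]
      rw [show orderOf (g * (t * m) * g⁻¹) = orderOf (t * m) from (MulAut.conj g).orderOf_eq _]
      refine (sq_iff.1 hm').resolve_left fun h => hMinv t ?_ ht
      rw [eq_inv_of_mul_eq_one_left h]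
      exact inv_mem hm.1
    have hB : ∀ m ∈ T, π (g * (t * m) * g⁻¹) = π s := by
      intro m hm
      rw [← hg, map_mul, map_mul, map_mul, (hπ1 _).2 hm.1, mul_one, map_mul, map_mul]
    have hC : ∀ x : G, orderOf x = 2 → π x = π s → t⁻¹ * (g⁻¹ * x * g) ∈ T := by
      intro x hx h1
      refine ⟨(hπ1 _).1 ?_, ?_⟩
      · rw [map_mul, map_mul, map_mul, h1, ← hg]
        simp only [map_mul, map_inv]
        group
      · have h2 : g⁻¹ * x * g * (g⁻¹ * x * g) = 1 := by
          calc g⁻¹ * x * g * (g⁻¹ * x * g) = g⁻¹ * (x * x) * g := by group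
            _ = 1 := by rw [hself hx, mul_one, inv_mul_cancel]
        revert h2
        generalize g⁻¹ * x * g = z
        intro h2
        calc t * (t⁻¹ * z) * t⁻¹ = z * t⁻¹ := by group
          _ = z⁻¹ * t := by rw [inv_eq_of_mul_eq_one_left (hself ht), inv_eq_of_mul_eq_one_left h2]
          _ = (t⁻¹ * z)⁻¹ := by group
    exact (Nat.card_congr
      { toFun := fun m : T => (⟨⟨g * (t * (m : G)) * g⁻¹, hA m m.2⟩, Subtype.ext (hB m m.2)⟩ :
          {x // φ x = ⟨π s, hy⟩})
        invFun := fun x => ⟨t⁻¹ * (g⁻¹ * x.1.1 * g), hC _ x.1.2 (congrArg Subtype.val x.2)⟩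
        left_inv := fun m => Subtype.ext (by
          show t⁻¹ * (g⁻¹ * (g * (t * (m : G)) * g⁻¹) * g) = m
          group)
        right_inv := fun x => Subtype.ext (Subtype.ext (by
          show g * (t * (t⁻¹ * (g⁻¹ * x.1.1 * g))) * g⁻¹ = x.1.1
          group)) }).symm
  have hcount : p ^ j = Nat.card {y : G ⧸ M // orderOf y = 2} * r ^ d := by
    haveI : Fintype {y : G ⧸ M // orderOf y = 2} := Fintype.ofFinite _
    rw [← hcard, ← Nat.card_congr (Equiv.sigmaFiberEquiv φ), Nat.card_sigma, Finset.sum_congr rfl fun y _ => hfib y,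
      Finset.sum_const, Finset.card_univ, smul_eq_mul, Nat.card_eq_fintype_card]
  obtain ⟨i, -, hi⟩ := (Nat.dvd_prime_pow hp).1 (hcount ▸ Dvd.intro _ rfl :
    Nat.card {y : G ⧸ M // orderOf y = 2} ∣ p ^ j)
  have hnsQ : ¬ Group.IsSolvable (G ⧸ M) := fun hs => by
    haveI := hs
    exact hns (Group.isSolvable_of_ker_le_range M.subtype π
      (by rw [QuotientGroup.ker_mk', Subgroup.range_subtype]))
  have hlt : Nat.card (G ⧸ M) < n := by
    rw [← hn, card_eq_card_quotient_mul_card_subgroup M]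
    exact lt_mul_of_one_lt_right Nat.card_pos ((one_lt_card_iff_ne_bot M).2 hM1)
  obtain ⟨hiev, hi9⟩ := ih _ hlt (G ⧸ M) p i rfl hp hp2 hnsQ hi (fun x y hx hy => by
    obtain ⟨a, ha, rfl⟩ := hlift x hx
    obtain ⟨b, hb, rfl⟩ := hlift y hy
    obtain ⟨g, hg⟩ := hconj a b ha hb
    exact ⟨π g, by rw [← hg, map_mul, map_mul, map_inv]⟩)
  rw [hi] at hcount
  rcases Nat.eq_zero_or_pos d with rfl | hdpos
  · rw [pow_zero, mul_one] at hcount
    rw [Nat.pow_right_injective hp.two_le hcount]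
    exact ⟨hiev, hi9⟩
  have hrp : r = p := (Nat.prime_dvd_prime_iff_eq hr hp).1
    (hr.dvd_of_dvd_pow (hcount ▸ (dvd_pow_self r hdpos.ne').mul_left _))
  -- linear algebra on `M`
  letI : CommGroup M :=
    { (inferInstance : Group M) with mul_comm := fun x y => Subtype.ext (hMc x x.2 y y.2) }
  obtain ⟨md⟩ : Nonempty (Module (ZMod r) (Additive M)) :=
    ⟨AddCommGroup.zmodModule fun x => congrArg Additive.ofMul
      (Subtype.ext (hexp _ x.toMul.2) : x.toMul ^ r = 1)⟩
  letI := md
  haveI : Module.Finite (ZMod r) (Additive M) := Module.Finite.of_finite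
  let σ : G →* Module.End (ZMod r) (Additive M) :=
    { toFun := fun g =>
        AddMonoidHom.toZModLinearMap r (MonoidHom.toAdditive (MulAut.conjNormal g : MulAut M).toMonoidHom)
      map_one' := LinearMap.ext fun x => by
        show Additive.ofMul ((MulAut.conjNormal (1 : G) : MulAut M) x.toMul) = x
        rw [map_one]; rfl
      map_mul' := fun g h => LinearMap.ext fun x => by
        show Additive.ofMul ((MulAut.conjNormal (g * h) : MulAut M) x.toMul) =
          Additive.ofMul ((MulAut.conjNormal g : MulAut M) ((MulAut.conjNormal h : MulAut M) x.toMul))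
        rw [map_mul]; rfl }
  have hσ : ∀ g (x : Additive M), (((σ g x).toMul : M) : G) = g * (x.toMul : G) * g⁻¹ :=
    fun g x => MulAut.conjNormal_apply g x.toMul
  have hinvker : ∀ {A : Type u} [Group A] (f : G →* A), ¬ Group.IsSolvable f.ker → f t = 1 := by
    intro A _ f hf
    obtain ⟨z, hz, hz2⟩ := exists_involution_of_not_solvable hf
    obtain ⟨g, hg⟩ := hconj z t hz2 ht
    rw [← hg, map_mul, map_mul, MonoidHom.mem_ker.1 hz, mul_one, ← map_mul, mul_inv_cancel, map_one]
  -- determinant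
  let δ : G →* (ZMod r)ˣ := (LinearMap.det.comp σ).toHomUnits
  have hδt : LinearMap.det (σ t) = 1 := by
    have hns' : ¬ Group.IsSolvable δ.ker := fun hs => by
      haveI := hs
      haveI : Group.IsSolvable (ZMod r)ˣ := Group.isSolvable_of_comm fun a b => mul_comm a b
      exact hns (Group.isSolvable_of_ker_le_range δ.ker.subtype δ (by rw [Subgroup.range_subtype]))
    obtain ⟨z, hz, hz2⟩ := exists_involution_of_not_solvable hns'
    obtain ⟨g, hg⟩ := hconj z t hz2 ht
    have h1 : δ t = 1 := by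
      rw [← hg, map_mul, map_mul, MonoidHom.mem_ker.1 hz, mul_one, ← map_mul, mul_inv_cancel, map_one]
    exact congrArg Units.val h1
  set W := LinearMap.ker (σ t + 1) with hW
  have hWmem : ∀ x : Additive M, x ∈ W ↔ σ t x = -x := fun x => by
    rw [hW, LinearMap.mem_ker, LinearMap.add_apply, Module.End.one_apply, add_eq_zero_iff_eq_neg]
  have hinvol : ∀ x, σ t (σ t x) = x := fun x => by
    rw [← Module.End.mul_apply, ← map_mul, hself ht, map_one, Module.End.one_apply]
  have hWd : Module.finrank (ZMod r) W = d := by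
    have h1 := Module.natCard_eq_pow_finrank (K := ZMod r) (V := W)
    rw [Nat.card_zmod, Nat.card_congr (β := T)
      { toFun := fun x : W => (⟨((x : Additive M).toMul : G), ((x : Additive M).toMul).2, by
          rw [← hσ, (hWmem _).1 x.2]; rfl⟩ : T)
        invFun := fun m : T => ⟨Additive.ofMul ⟨m.1, m.2.1⟩, (hWmem _).2
          (congrArg Additive.ofMul (Subtype.ext (by
            show t * (m : G) * t⁻¹ = (m : G)⁻¹
            exact m.2.2)))⟩
        left_inv := fun x => rfl
        right_inv := fun m => rfl }, hd] at h1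
    exact (Nat.pow_right_injective hr.two_le h1).symm
  have he : W ≤ W.comap (σ t) := fun x hx => by
    rw [Submodule.mem_comap, hWmem, hinvol, (hWmem x).1 hx, neg_neg]
  have hdet : LinearMap.det (σ t) = (-1) ^ d := by
    rw [LinearMap.det_eq_det_mul_det W (σ t) he]
    have h1 : (σ t).restrict (p := W) (q := W) he = (-1 : ZMod r) • LinearMap.id := LinearMap.ext fun x => Subtype.ext (by
      show σ t (x : Additive M) = (-1 : ZMod r) • (x : Additive M)
      rw [(hWmem _).1 x.2, neg_one_smul])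
    have h2 : W.mapQ W (σ t) he = LinearMap.id := Submodule.linearMap_qext _ (LinearMap.ext fun x => by
      show Submodule.Quotient.mk (σ t x) = Submodule.Quotient.mk x
      rw [Submodule.Quotient.eq, hWmem, map_sub, hinvol, neg_sub])
    rw [h1, h2, LinearMap.det_smul, LinearMap.det_id, LinearMap.det_id, hWd, mul_one, mul_one]
  have hdev : Even d := by
    by_contra hodd
    rw [hdet, (Nat.not_even_iff_odd.1 hodd).neg_one_pow] at hδt
    haveI : Fact (2 < r) := ⟨lt_of_le_of_ne hr.two_le (Ne.symm hr2)⟩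
    exact ZMod.neg_one_ne_one hδt
  have hji : j = i + d := Nat.pow_right_injective hp.two_le (by
    show p ^ j = p ^ (i + d)
    rw [hcount, hrp, pow_add])
  refine ⟨hji ▸ hiev.add hdev, fun h9 => ?_⟩
  obtain rfl : p = 3 := (Nat.prime_dvd_prime_iff_eq hp Nat.prime_three).1
    (hp.dvd_of_dvd_pow (n := 2) (by rw [show (3 : ℕ) ^ 2 = p ^ j by rw [h9]; norm_num]; exact dvd_pow_self p (by omega)))
  have hj2 : j = 2 := Nat.pow_right_injective (le_refl 2 |>.trans (by norm_num)) (h9.trans (by norm_num : (9 : ℕ) = 3 ^ 2))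
  obtain ⟨rfl, rfl⟩ : i = 0 ∧ d = 2 := by
    obtain ⟨a, ha⟩ := hiev
    obtain ⟨b, hb⟩ := hdev
    omega
  haveI : Subsingleton {y : G ⧸ M // orderOf y = 2} :=
    Finite.card_le_one_iff_subsingleton.1 (by rw [hi, pow_zero])
  have hTn : T.Normal := ⟨fun m hm g => ⟨hM.conj_mem m hm.1 g, by
    have hgt : orderOf (g⁻¹ * t * g) = 2 := by
      rw [← ht]; simpa using (MulAut.conj g⁻¹).orderOf_eq t
    have h1 : π (g⁻¹ * t * g) = π t := congrArg Subtype.val
      (Subsingleton.elim (φ ⟨_, hgt⟩) (φ ⟨t, ht⟩))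
    have hm0 : t⁻¹ * (g⁻¹ * t * g) ∈ M := (hπ1 _).1 (by rw [map_mul, map_inv, h1, inv_mul_cancel])
    have h2 := hMc _ hm0 m hm.1
    calc t * (g * m * g⁻¹) * t⁻¹
        = g * (t * ((t⁻¹ * (g⁻¹ * t * g)) * m) * (t⁻¹ * (g⁻¹ * t * g))⁻¹ * t⁻¹) * g⁻¹ := by group
      _ = g * (t * (m * (t⁻¹ * (g⁻¹ * t * g))) * (t⁻¹ * (g⁻¹ * t * g))⁻¹ * t⁻¹) * g⁻¹ := by rw [h2]
      _ = g * (t * m * t⁻¹) * g⁻¹ := by group
      _ = (g * m * g⁻¹)⁻¹ := by rw [hm.2]; group⟩⟩
  have hTM : T = M := hmin T hTn (fun m hm => hm.1) fun h => by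
    rw [h, card_bot] at hd
    exact (Nat.one_lt_pow two_ne_zero hr.one_lt).ne hd
  have hMr : Module.finrank (ZMod r) (Additive M) = 2 := by
    have h1 := Module.natCard_eq_pow_finrank (K := ZMod r) (V := Additive M)
    rw [Nat.card_zmod, show Nat.card (Additive M) = Nat.card M from rfl,
      (congrArg (fun H : Subgroup G => Nat.card H) hTM).symm.trans hd] at h1
    exact (Nat.pow_right_injective hr.two_le h1).symm
  let bas := Module.finBasisOfFinrankEq (ZMod r) (Additive M) hMr
  let f : G →* GL (Fin 2) (ZMod r) := ((LinearMap.toMatrixAlgEquiv bas).toMulEquiv.toMonoidHom.comp σ).toHomUnits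
  have hft : ¬ Group.IsSolvable f.ker := fun hs => by
    haveI := hs
    have hGL : Nat.card (GL (Fin 2) (ZMod r)) = 2 ^ 4 * 3 ^ 1 := by
      rw [Matrix.card_GL_field, Fin.prod_univ_two, ZMod.card, hrp]
      norm_num
    haveI : Group.IsSolvable (GL (Fin 2) (ZMod r)) := S0144.result 2 3 4 1 Nat.prime_two Nat.prime_three hGL
    exact hns (Group.isSolvable_of_ker_le_range f.ker.subtype f (by rw [Subgroup.range_subtype]))
  obtain ⟨z, hz, hz2⟩ := exists_involution_of_not_solvable hft
  obtain ⟨g, hg⟩ := hconj z t hz2 ht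
  have h1 : f t = 1 := by
    rw [← hg, map_mul, map_mul, MonoidHom.mem_ker.1 hz, mul_one, ← map_mul, mul_inv_cancel, map_one]
  have h2 : σ t = 1 := (LinearMap.toMatrixAlgEquiv bas).injective
    ((congrArg Units.val h1).trans (map_one (LinearMap.toMatrixAlgEquiv bas)).symm)
  obtain ⟨z', hz'⟩ := exists_prime_orderOf_dvd_card' (G := M) r (Nat.minFac_dvd _)
  have h3 : t * (z' : G) * t⁻¹ = (z' : G) := by
    have := hσ t (Additive.ofMul z')
    rw [h2] at this
    exact this.symm
  have h4 : (z' : G) * z' = 1 := by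
    have h5 := (hTM.ge z'.2).2
    rw [h3] at h5
    exact mul_eq_one_iff_eq_inv.2 h5
  rcases sq_iff.1 h4 with h | h
  · rw [show z' = 1 from Subtype.ext h, orderOf_one] at hz'
    exact hr.one_lt.ne hz'
  · exact hMinv _ z'.2 h

end Cfsg.Agent.Pyramidal
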