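import Mathlib
import Cfsg.Agent.Lib.Classical.DicksonSolvable

/-!
A non-solvable group with `q ^ 2` involutions forming one conjugacy class, for every odd prime power
`q ≥ 5`: the plane extended by `SL(2, q)`.
-/

set_option autoImplicit false
set_option linter.style.haveILetI false
set_option linter.unusedSectionVars false

namespace Cfsg.Agent.Pyramidal

open Matrix

variable (F : Type) [Field F] [Fintype F]

/-- The natural action of `SL(2, F)` on the plane. -/
noncomputable def planeAct : Matrix.SpecialLinearGroup (Fin 2) F →* MulAut (Multiplicative (Fin 2 → F)) where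
  toFun A := AddEquiv.toMultiplicative (Matrix.SpecialLinearGroup.toLin' A).toAddEquiv
  map_one' := by
    refine MulEquiv.ext fun v => ?_
    show Multiplicative.ofAdd ((1 : Matrix (Fin 2) (Fin 2) F).mulVec v.toAdd) = v
    rw [Matrix.one_mulVec]
    rfl
  map_mul' A B := by
    refine MulEquiv.ext fun v => ?_
    show Multiplicative.ofAdd (((A * B : Matrix.SpecialLinearGroup (Fin 2) F) : Matrix (Fin 2) (Fin 2) F).mulVec
        v.toAdd) = Multiplicative.ofAdd ((A : Matrix (Fin 2) (Fin 2) F).mulVec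
          ((B : Matrix (Fin 2) (Fin 2) F).mulVec v.toAdd))
    rw [Matrix.SpecialLinearGroup.coe_mul, Matrix.mulVec_mulVec]

theorem planeAct_apply (A : Matrix.SpecialLinearGroup (Fin 2) F) (v : Multiplicative (Fin 2 → F)) :
    (planeAct F A v).toAdd = (A : Matrix (Fin 2) (Fin 2) F).mulVec v.toAdd := rfl

/-- The plane extended by `SL(2, F)`. -/
abbrev Plane : Type := Multiplicative (Fin 2 → F) ⋊[planeAct F] Matrix.SpecialLinearGroup (Fin 2) F

theorem sq_eq_one_cases (h2 : (2 : F) ≠ 0) {A : Matrix.SpecialLinearGroup (Fin 2) F} (h : A * A = 1) :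
    A = 1 ∨ A = -1 := by
  have hd : A.1 0 0 * A.1 1 1 - A.1 0 1 * A.1 1 0 = 1 := by rw [← Matrix.det_fin_two]; exact A.2
  have hm : A.1 * A.1 = 1 := by rw [← Matrix.SpecialLinearGroup.coe_mul, h]; rfl
  have h00 : A.1 0 0 * A.1 0 0 + A.1 0 1 * A.1 1 0 = 1 := by
    simpa [Matrix.mul_apply, Fin.sum_univ_two] using congrFun (congrFun hm 0) 0
  have h01 : A.1 0 0 * A.1 0 1 + A.1 0 1 * A.1 1 1 = 0 := by
    simpa [Matrix.mul_apply, Fin.sum_univ_two] using congrFun (congrFun hm 0) 1
  have h10 : A.1 1 0 * A.1 0 0 + A.1 1 1 * A.1 1 0 = 0 := by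
    simpa [Matrix.mul_apply, Fin.sum_univ_two] using congrFun (congrFun hm 1) 0
  have h11 : A.1 1 0 * A.1 0 1 + A.1 1 1 * A.1 1 1 = 1 := by
    simpa [Matrix.mul_apply, Fin.sum_univ_two] using congrFun (congrFun hm 1) 1
  have hs : A.1 0 0 + A.1 1 1 ≠ 0 := fun e => h2 (by linear_combination -h00 - hd + A.1 0 0 * e)
  have hb : A.1 0 1 = 0 := (mul_eq_zero.1 (show (A.1 0 0 + A.1 1 1) * A.1 0 1 = 0 by linear_combination h01)
    ).resolve_left hs
  have hc : A.1 1 0 = 0 := (mul_eq_zero.1 (show (A.1 0 0 + A.1 1 1) * A.1 1 0 = 0 by linear_combination h10)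
    ).resolve_left hs
  rw [hb, zero_mul, sub_zero] at hd
  rw [hb, zero_mul, add_zero] at h00
  have hde : A.1 1 1 = A.1 0 0 := by linear_combination A.1 0 0 * hd - A.1 1 1 * h00
  rcases mul_self_eq_one_iff.1 h00 with ha | ha
  · refine Or.inl (Subtype.ext (Matrix.ext fun i j => ?_))
    fin_cases i <;> fin_cases j <;> simp [hb, hc, hde, ha]
  · refine Or.inr (Subtype.ext (Matrix.ext fun i j => ?_))
    fin_cases i <;> fin_cases j <;> simp [hb, hc, hde, ha]

theorem neg_one_ne (h2 : (2 : F) ≠ 0) : (-1 : Matrix.SpecialLinearGroup (Fin 2) F) ≠ 1 := fun e => by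
  have h := congrArg (fun A : Matrix.SpecialLinearGroup (Fin 2) F => A.1 0 0) e
  simp at h
  exact h2 (by linear_combination -h)

theorem orderOf_eq_two_iff (h2 : (2 : F) ≠ 0) (x : Plane F) : orderOf x = 2 ↔ x.right = -1 := by
  have hmul : ∀ y : Plane F, (y * y).left.toAdd =
      y.left.toAdd + (y.right : Matrix (Fin 2) (Fin 2) F).mulVec y.left.toAdd := fun y => by
    rw [SemidirectProduct.mul_left, toAdd_mul, planeAct_apply]
  rw [orderOf_eq_prime_iff, pow_two]
  constructor
  · rintro ⟨hx, hx1⟩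
    have hr : x.right * x.right = 1 := by rw [← SemidirectProduct.mul_right, hx]; rfl
    rcases sq_eq_one_cases F h2 hr with h | h
    · refine absurd ?_ hx1
      have hl := hmul x
      rw [hx, h, Matrix.SpecialLinearGroup.coe_one, Matrix.one_mulVec] at hl
      refine SemidirectProduct.ext (Multiplicative.toAdd.injective (funext fun i => ?_)) h
      have hi := congrFun hl i
      simp only [SemidirectProduct.one_left, toAdd_one, Pi.zero_apply, Pi.add_apply] at hi ⊢
      exact (mul_eq_zero.1 (show (2 : F) * x.left.toAdd i = 0 by linear_combination -hi)).resolve_left h2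
    · exact h
  · intro h
    refine ⟨SemidirectProduct.ext (Multiplicative.toAdd.injective ?_) ?_, fun e => ?_⟩
    · rw [hmul, h]
      simp [Matrix.neg_mulVec]
    · rw [SemidirectProduct.mul_right, h]
      exact Subtype.ext (by simp)
    · exact neg_one_ne F h2 (by rw [← h, e]; rfl)

theorem card_involutions (h2 : (2 : F) ≠ 0) :
    Nat.card {x : Plane F // orderOf x = 2} = Nat.card F ^ 2 := by
  rw [show Nat.card F ^ 2 = Nat.card (Fin 2 → F) by rw [Nat.card_fun, Nat.card_eq_fintype_card (α := Fin 2),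
    Fintype.card_fin]]
  exact Nat.card_congr
    { toFun := fun x => x.1.left.toAdd
      invFun := fun v => ⟨⟨Multiplicative.ofAdd v, -1⟩, (orderOf_eq_two_iff F h2 _).2 rfl⟩
      left_inv := fun x => Subtype.ext (SemidirectProduct.ext rfl ((orderOf_eq_two_iff F h2 _).1 x.2).symm)
      right_inv := fun v => rfl }

theorem isConj_involutions (h2 : (2 : F) ≠ 0) (x y : Plane F) (hx : orderOf x = 2) (hy : orderOf y = 2) :
    ∃ g : Plane F, g * x * g⁻¹ = y := by
  rw [orderOf_eq_two_iff F h2] at hx hy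
  set w : Fin 2 → F := (2 : F)⁻¹ • (y.left.toAdd - x.left.toAdd) with hw
  refine ⟨⟨Multiplicative.ofAdd w, 1⟩, SemidirectProduct.ext (Multiplicative.toAdd.injective (funext fun i => ?_)) ?_⟩
  · simp only [SemidirectProduct.mul_left, SemidirectProduct.mul_right, SemidirectProduct.inv_left,
      toAdd_mul, planeAct_apply, map_one, MulAut.one_apply, inv_one, one_mul, toAdd_inv, toAdd_ofAdd, hx,
      Matrix.SpecialLinearGroup.coe_neg, Matrix.SpecialLinearGroup.coe_one, Matrix.neg_mulVec, Matrix.one_mulVec,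
      Pi.add_apply, Pi.neg_apply, hw, Pi.smul_apply, Pi.sub_apply, smul_eq_mul]
    field_simp
    ring
  · simp [hx, hy]

theorem not_isSolvable (h4 : 4 ≤ Nat.card F) : ¬ Group.IsSolvable (Plane F) := fun h => by
  haveI := h
  haveI : Group.IsSolvable (Matrix.SpecialLinearGroup (Fin 2) F) :=
    Group.isSolvable_of_surjective (f := (SemidirectProduct.rightHom :
      Plane F →* Matrix.SpecialLinearGroup (Fin 2) F)) SemidirectProduct.rightHom_surjective
  exact Dickson.not_isSolvable_psl (F := F) h4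
    (Group.isSolvable_of_surjective (f := QuotientGroup.mk'
      (Subgroup.center (Matrix.SpecialLinearGroup (Fin 2) F))) (QuotientGroup.mk'_surjective _))

/-- The counterexamples. -/
theorem exists_counterexample {p k : ℕ} (hp : p.Prime) (hp2 : p ≠ 2) (hk : 1 ≤ k) (hev : ¬ Odd k)
    (h9 : p ^ k ≠ 9) : ∃ (G : Type) (_ : Group G) (_ : Finite G), Nat.card {x : G // orderOf x = 2} = p ^ k ∧
      (∀ x y : G, orderOf x = 2 → orderOf y = 2 → ∃ g : G, g * x * g⁻¹ = y) ∧ ¬ Group.IsSolvable G := by
  haveI : Fact p.Prime := ⟨hp⟩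
  obtain ⟨j, rfl⟩ := even_iff_two_dvd.1 (Nat.not_odd_iff_even.1 hev)
  haveI : Fintype (GaloisField p j) := Fintype.ofFinite _
  have hc : Nat.card (GaloisField p j) = p ^ j := GaloisField.card p j (by omega)
  have h2 : ((2 : ℕ) : GaloisField p j) ≠ 0 := by
    rw [Ne, CharP.cast_eq_zero_iff (GaloisField p j) p]
    exact fun h => hp2 ((Nat.prime_dvd_prime_iff_eq hp Nat.prime_two).1 h)
  have h2' : (2 : GaloisField p j) ≠ 0 := by simpa using h2
  have h4 : 4 ≤ p ^ j := by
    have h3 : 3 ≤ p := by have := hp.two_le; omega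
    rcases Nat.lt_or_ge j 2 with hj | hj
    · obtain rfl : j = 1 := by omega
      rcases Nat.lt_or_ge p 4 with h | h
      · obtain rfl : p = 3 := by omega
        norm_num at h9
      · simpa using h
    · exact le_trans (by norm_num) (le_trans (Nat.pow_le_pow_left h3 2) (Nat.pow_le_pow_right (by omega) hj))
  refine ⟨Plane (GaloisField p j), inferInstance, ?_, ?_, isConj_involutions _ h2',
    not_isSolvable _ (hc ▸ h4)⟩
  · exact Finite.of_equiv _ SemidirectProduct.equivProd.symm
  · rw [card_involutions _ h2', hc, ← pow_mul, mul_comm]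

end Cfsg.Agent.Pyramidal
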